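import Mathlib
import Cfsg.Prelude.Def_Classical
import Cfsg.Prelude.Def_KGroupFacts
import Cfsg.Agent.Helper2.S3352.Defs
import Cfsg.Agent.Helper2.S2096.Defs

set_option autoImplicit false
set_option linter.unusedSectionVars false
set_option linter.unusedVariables false

/-! S2094 (Schur multiplier of `Ω_{2n+1}(q)`, `q` odd): common definitions.

Type `B_n`: the long roots `ε_a - ε_b` are those of `D_n` (signed indices `J n`, `IsRoot a b`, as in
S3352/S2096), the short roots are the `ε_a`, `a : J n`. `BRel X Ys` = Steinberg relations of type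
`B_n` for long root elements `X a b t` and short root elements `Ys a t`; `StB n F` is the group
presented by them. Model in `Ω_{2n+1}` (form `x₀² + Σ x_i y_i`, index type `Unit ⊕ J n`):
`xmB a b t = 1 + t (E_{a,b} - E_{-b,-a})`, `ymB a t = 1 + 2t E_{a,0} - t E_{0,-a} - t² E_{a,-a}`. -/

namespace Cfsg.Agent.S2094P

open Matrix Cfsg.Agent.S3352P Cfsg.Agent.S3351P Cfsg.Agent.S2096P

universe u

/-- the index set of the matrices -/
abbrev I (n : ℕ) : Type := Unit ⊕ J n

/-- the index `0` -/
abbrev o0 {n : ℕ} : I n := Sum.inl ()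

section model

variable {n : ℕ} {F : Type*} [Field F]

/-- the model of the long root elements -/
def xmB (a b : J n) (t : F) : Matrix (I n) (I n) F :=
  1 + t • (Matrix.single (Sum.inr a) (Sum.inr b) (1 : F) -
    Matrix.single (Sum.inr (ng b)) (Sum.inr (ng a)) (1 : F))

/-- the model of the short root elements -/
def ymB (a : J n) (t : F) : Matrix (I n) (I n) F :=
  1 + (2 * t) • Matrix.single (Sum.inr a) o0 (1 : F) - t • Matrix.single o0 (Sum.inr (ng a)) (1 : F) -
    (t * t) • Matrix.single (Sum.inr a) (Sum.inr (ng a)) (1 : F)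

end model

variable {n : ℕ} {F : Type*} [Field F] {M : Type*} [Group M]

/-- the Steinberg relations of type `B_n` -/
structure BRel (X : J n → J n → F → M) (Ys : J n → F → M) : Prop where
  dX : DRel X
  yadd : ∀ a, ∀ s t : F, Ys a (s + t) = Ys a s * Ys a t
  yy : ∀ a b, IsRoot a b → ∀ s t : F, cm (Ys a s) (Ys b t) = X a (ng b) (-(2 * s * t))
  xy : ∀ a b, IsRoot a b → ∀ s t : F,
    cm (X a b s) (Ys b t) = Ys a (s * t) * X a (ng b) (s * t * t)
  ycomm : ∀ a c d, IsRoot c d → d ≠ a → c ≠ ng a → ∀ s t : F,
    Ys a s * X c d t = X c d t * Ys a s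

/-! ### the presented group -/

/-- generators: long root elements (names `(a, b)` of roots) and short root elements -/
abbrev GenB (n : ℕ) (F : Type*) : Type _ := ({p : J n × J n // IsRoot p.1 p.2} × F) ⊕ (J n × F)

/-- the long root elements determined by an assignment of the generators -/
def famX (f : GenB n F → M) (a b : J n) (t : F) : M :=
  if h : IsRoot a b then f (Sum.inl (⟨(a, b), h⟩, t)) else 1

/-- the short root elements determined by an assignment of the generators -/
def famY (f : GenB n F → M) (a : J n) (t : F) : M := f (Sum.inr (a, t))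

theorem famX_of_isRoot (f : GenB n F → M) {a b : J n} (h : IsRoot a b) (t : F) :
    famX f a b t = f (Sum.inl (⟨(a, b), h⟩, t)) := dif_pos h

/-- the relators: the words which vanish in every group with the relations -/
def relsB (n : ℕ) (F : Type u) [Field F] : Set (FreeGroup (GenB n F)) :=
  {w | ∀ (M : Type u) [Group M] (f : GenB n F → M), BRel (famX f) (famY f) →
    FreeGroup.lift f w = 1}

/-- the Steinberg group of type `B_n` over `F` -/
abbrev StB (n : ℕ) (F : Type u) [Field F] : Type u := PresentedGroup (relsB n F)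

section pres

variable {n : ℕ} {F : Type u} [Field F]

/-- the word of a long root element -/
def wdX (a b : J n) (t : F) : FreeGroup (GenB n F) :=
  if h : IsRoot a b then FreeGroup.of (Sum.inl (⟨(a, b), h⟩, t)) else 1

/-- the word of a short root element -/
def wdY (a : J n) (t : F) : FreeGroup (GenB n F) := FreeGroup.of (Sum.inr (a, t))

theorem lift_wdX {M : Type*} [Group M] (f : GenB n F → M) (a b : J n) (t : F) :
    FreeGroup.lift f (wdX a b t) = famX f a b t := by
  unfold wdX famX
  split_ifs with h
  · rw [FreeGroup.lift_apply_of]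
  · rw [map_one]

theorem lift_wdY {M : Type*} [Group M] (f : GenB n F → M) (a : J n) (t : F) :
    FreeGroup.lift f (wdY a t) = famY f a t := by
  unfold wdY famY
  rw [FreeGroup.lift_apply_of]

/-- the long root generators -/
def sxB (a b : J n) (t : F) : StB n F := PresentedGroup.mk (relsB n F) (wdX a b t)

/-- the short root generators -/
def syB (a : J n) (t : F) : StB n F := PresentedGroup.mk (relsB n F) (wdY a t)

theorem mk_eq_mk_of {w₁ w₂ : FreeGroup (GenB n F)}
    (h : ∀ (M : Type u) [Group M] (f : GenB n F → M), BRel (famX f) (famY f) →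
      FreeGroup.lift f w₁ = FreeGroup.lift f w₂) :
    PresentedGroup.mk (relsB n F) w₁ = PresentedGroup.mk (relsB n F) w₂ := by
  rw [← mul_inv_eq_one, ← map_inv, ← map_mul]
  apply PresentedGroup.one_of_mem
  intro M _ f hf
  rw [map_mul, map_inv, h M f hf, mul_inv_cancel]

/-- the generators satisfy the relations -/
theorem bRel_st : BRel (sxB (n := n) (F := F)) (syB (n := n) (F := F)) where
  dX :=
    { flip := by
        intro a b hab t
        apply mk_eq_mk_of
        intro M _ f hf
        rw [lift_wdX, lift_wdX]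
        exact hf.dX.flip a b hab t
      add := by
        intro a b hab s t
        show PresentedGroup.mk _ _ = PresentedGroup.mk _ _ * PresentedGroup.mk _ _
        rw [← map_mul]
        apply mk_eq_mk_of
        intro M _ f hf
        rw [map_mul, lift_wdX, lift_wdX, lift_wdX]
        exact hf.dX.add a b hab s t
      mul := by
        intro a b c hab hbc hac s t
        rw [cm_def]
        show PresentedGroup.mk _ _ * PresentedGroup.mk _ _ * (PresentedGroup.mk _ _)⁻¹ *
          (PresentedGroup.mk _ _)⁻¹ = PresentedGroup.mk _ _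
        rw [← map_inv, ← map_inv, ← map_mul, ← map_mul, ← map_mul]
        apply mk_eq_mk_of
        intro M _ f hf
        simp only [map_mul, map_inv, lift_wdX]
        rw [← cm_def]
        exact hf.dX.mul a b c hab hbc hac s t
      comm := by
        intro a b c d hab hcd h1 h2 h3 h4 h5 h6 s t
        show PresentedGroup.mk _ _ * PresentedGroup.mk _ _ =
          PresentedGroup.mk _ _ * PresentedGroup.mk _ _
        rw [← map_mul, ← map_mul]
        apply mk_eq_mk_of
        intro M _ f hf
        simp only [map_mul, lift_wdX]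
        exact hf.dX.comm a b c d hab hcd h1 h2 h3 h4 h5 h6 s t
      orth := by
        intro a b hab s t
        show PresentedGroup.mk _ _ * PresentedGroup.mk _ _ =
          PresentedGroup.mk _ _ * PresentedGroup.mk _ _
        rw [← map_mul, ← map_mul]
        apply mk_eq_mk_of
        intro M _ f hf
        simp only [map_mul, lift_wdX]
        exact hf.dX.orth a b hab s t }
  yadd := by
    intro a s t
    show PresentedGroup.mk _ _ = PresentedGroup.mk _ _ * PresentedGroup.mk _ _
    rw [← map_mul]
    apply mk_eq_mk_of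
    intro M _ f hf
    rw [map_mul, lift_wdY, lift_wdY, lift_wdY]
    exact hf.yadd a s t
  yy := by
    intro a b hab s t
    rw [cm_def]
    show PresentedGroup.mk _ _ * PresentedGroup.mk _ _ * (PresentedGroup.mk _ _)⁻¹ *
      (PresentedGroup.mk _ _)⁻¹ = PresentedGroup.mk _ _
    rw [← map_inv, ← map_inv, ← map_mul, ← map_mul, ← map_mul]
    apply mk_eq_mk_of
    intro M _ f hf
    simp only [map_mul, map_inv, lift_wdX, lift_wdY]
    rw [← cm_def]
    exact hf.yy a b hab s t
  xy := by
    intro a b hab s t
    rw [cm_def]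
    show PresentedGroup.mk _ _ * PresentedGroup.mk _ _ * (PresentedGroup.mk _ _)⁻¹ *
      (PresentedGroup.mk _ _)⁻¹ = PresentedGroup.mk _ _ * PresentedGroup.mk _ _
    rw [← map_inv, ← map_inv, ← map_mul, ← map_mul, ← map_mul, ← map_mul]
    apply mk_eq_mk_of
    intro M _ f hf
    simp only [map_mul, map_inv, lift_wdX, lift_wdY]
    rw [← cm_def]
    exact hf.xy a b hab s t
  ycomm := by
    intro a c d hcd h1 h2 s t
    show PresentedGroup.mk _ _ * PresentedGroup.mk _ _ =
      PresentedGroup.mk _ _ * PresentedGroup.mk _ _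
    rw [← map_mul, ← map_mul]
    apply mk_eq_mk_of
    intro M _ f hf
    simp only [map_mul, lift_wdX, lift_wdY]
    exact hf.ycomm a c d hcd h1 h2 s t

theorem sxB_of_not_isRoot {a b : J n} (h : ¬ IsRoot a b) (t : F) : sxB a b t = (1 : StB n F) := by
  unfold sxB wdX
  rw [dif_neg h, map_one]

/-- the root generators generate -/
theorem closure_sB :
    Subgroup.closure ({g : StB n F | ∃ a b, ∃ t : F, IsRoot a b ∧ g = sxB a b t} ∪
      {g | ∃ a, ∃ t : F, g = syB a t}) = ⊤ := by
  rw [eq_top_iff, ← PresentedGroup.closure_range_of]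
  apply (Subgroup.closure_le _).mpr
  rintro _ ⟨(⟨⟨⟨a, b⟩, hab⟩, t⟩ | ⟨a, t⟩), rfl⟩
  · apply Subgroup.subset_closure
    left
    refine ⟨a, b, t, hab, ?_⟩
    unfold sxB wdX
    rw [dif_pos hab]
    rfl
  · apply Subgroup.subset_closure
    right
    exact ⟨a, t, rfl⟩

/-- the universal property (for groups in the universe of `F`) -/
theorem exists_liftB {M : Type u} [Group M] {X : J n → J n → F → M} {Ys : J n → F → M}
    (h : BRel X Ys) :
    ∃ φ : StB n F →* M, (∀ a b, IsRoot a b → ∀ t : F, φ (sxB a b t) = X a b t) ∧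
      ∀ a, ∀ t : F, φ (syB a t) = Ys a t := by
  classical
  let f : GenB n F → M := fun g => Sum.elim (fun p => X p.1.1.1 p.1.1.2 p.2) (fun p => Ys p.1 p.2) g
  have hfX : ∀ a b, IsRoot a b → ∀ t : F, famX f a b t = X a b t := by
    intro a b hab t
    rw [famX_of_isRoot f hab]
    rfl
  have hfY : ∀ a, ∀ t : F, famY f a t = Ys a t := fun a t => rfl
  -- the relations for `famX f`, `famY f`
  have hroot' : ∀ {a b : J n}, IsRoot a b → IsRoot a (ng b) := fun {a b} hab =>
    ⟨fun h => hab.2 h, fun h => hab.1 (by rw [h, ng_ng])⟩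
  have hB : BRel (famX f) (famY f) := by
    refine ⟨⟨?_, ?_, ?_, ?_, ?_⟩, ?_, ?_, ?_, ?_⟩
    · intro a b hab t
      rw [hfX _ _ hab.flip, hfX _ _ hab]; exact h.dX.flip a b hab t
    · intro a b hab s t
      rw [hfX _ _ hab, hfX _ _ hab, hfX _ _ hab]; exact h.dX.add a b hab s t
    · intro a b c hab hbc hac s t
      rw [hfX _ _ hab, hfX _ _ hbc, hfX _ _ hac]; exact h.dX.mul a b c hab hbc hac s t
    · intro a b c d hab hcd h1 h2 h3 h4 h5 h6 s t
      rw [hfX _ _ hab, hfX _ _ hcd]; exact h.dX.comm a b c d hab hcd h1 h2 h3 h4 h5 h6 s t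
    · intro a b hab s t
      rw [hfX _ _ hab, hfX _ _ (hroot' hab)]; exact h.dX.orth a b hab s t
    · intro a s t
      rw [hfY, hfY, hfY]; exact h.yadd a s t
    · intro a b hab s t
      rw [hfY, hfY, hfX _ _ (hroot' hab)]; exact h.yy a b hab s t
    · intro a b hab s t
      rw [hfY, hfY, hfX _ _ hab, hfX _ _ (hroot' hab)]; exact h.xy a b hab s t
    · intro a c d hcd h1 h2 s t
      rw [hfY, hfX _ _ hcd]; exact h.ycomm a c d hcd h1 h2 s t
  have hrel : ∀ r ∈ relsB n F, FreeGroup.lift f r = 1 := fun r hr => hr M f hB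
  refine ⟨PresentedGroup.toGroup hrel, ?_, ?_⟩
  · intro a b hab t
    have e : PresentedGroup.toGroup hrel (PresentedGroup.mk _ (wdX a b t)) =
        FreeGroup.lift f (wdX a b t) := rfl
    show PresentedGroup.toGroup hrel (PresentedGroup.mk _ (wdX a b t)) = X a b t
    rw [e, lift_wdX, hfX a b hab]
  · intro a t
    have e : PresentedGroup.toGroup hrel (PresentedGroup.mk _ (wdY a t)) =
        FreeGroup.lift f (wdY a t) := rfl
    show PresentedGroup.toGroup hrel (PresentedGroup.mk _ (wdY a t)) = Ys a t
    rw [e, lift_wdY, hfY]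

/-- homomorphisms from `StB n F` are determined by the root generators -/
theorem hom_extB {M : Type*} [Group M] {φ φ' : StB n F →* M}
    (h : ∀ a b, IsRoot a b → ∀ t : F, φ (sxB a b t) = φ' (sxB a b t))
    (h' : ∀ a, ∀ t : F, φ (syB a t) = φ' (syB a t)) : φ = φ' := by
  apply MonoidHom.eq_of_eqOn_dense (closure_sB (n := n) (F := F))
  rintro _ (⟨a, b, t, hab, rfl⟩ | ⟨a, t, rfl⟩)
  · exact h a b hab t
  · exact h' a t

end pres

end Cfsg.Agent.S2094P
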