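import Mathlib
import Cfsg.Agent.Helper2.S2094.Defs
import Cfsg.Agent.Helper2.RGD.Defs
import Cfsg.Agent.Helper23.S3352POSCOMB
import Cfsg.Agent.Helper2.S3352.WConj

set_option autoImplicit false
set_option linter.unusedSectionVars false
set_option linter.unusedVariables false

/-! S2094: Weyl and torus elements of the short roots, the names of the roots of `B_n` and the root
group datum (`Cfsg.Agent.RGD.Datum`) of a group with the relations `BRel`. -/

namespace Cfsg.Agent.S2094P

open Matrix Cfsg.Agent.S3352P Cfsg.Agent.S3351P Cfsg.Agent.S2096P Cfsg.Agent.RGD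

variable {n : ℕ} {F : Type*} [Field F] {M : Type*} [Group M]

/-- Weyl elements of the short roots (with our normalization `(Ys a t, Ys (-a) (-t))` is a standard
`SL₂`-pair, whence the sign) -/
def wY (Ys : J n → F → M) (a : J n) (t : F) : M := Ys a t * Ys (ng a) t⁻¹ * Ys a t

/-- torus elements of the short roots -/
def tY (Ys : J n → F → M) (a : J n) (t : F) : M := wY Ys a t * wY Ys a (-1)

/-- the sign change at `a`: the reflection in the short root `ε_a` acting on the signed indices -/
def sc (a : J n) : Equiv.Perm (J n) := Equiv.swap a (ng a)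

/-- names of the roots of `B_n` (with junk) -/
inductive RB (n : ℕ) : Type
  | lg (a b : J n) : RB n
  | sh (a : J n) : RB n
  deriving DecidableEq

/-- valid names -/
def RB.Valid : RB n → Prop
  | RB.lg a b => IsRoot a b
  | RB.sh _ => True

/-- the names of the roots of `B_n` -/
abbrev RootB (n : ℕ) : Type := {r : RB n // r.Valid}

/-- the action of a permutation of the signed indices on the names -/
def RB.map (σ : J n → J n) : RB n → RB n
  | RB.lg a b => RB.lg (σ a) (σ b)
  | RB.sh a => RB.sh (σ a)

/-- the opposite root -/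
def RB.neg : RB n → RB n
  | RB.lg a b => RB.lg b a
  | RB.sh a => RB.sh (ng a)

/-- the other name of the same root -/
def RB.alt : RB n → RB n
  | RB.lg a b => RB.lg (ng b) (ng a)
  | RB.sh a => RB.sh a

/-- positive roots: `ε_a - ε_b` with `rk a < rk b`, and `ε_a` for `a = e_i` -/
def RB.Pos : RB n → Prop
  | RB.lg a b => rk a < rk b
  | RB.sh a => ∃ i, a = Sum.inl i

/-- simple roots: `ε_i - ε_{i+1}` (name `(e_i, e_{i+1})`) and `ε_{n-1}` -/
def RB.Simple : RB n → Prop
  | RB.lg a b => ∃ i j : Fin n, j.val = i.val + 1 ∧ a = Sum.inl i ∧ b = Sum.inl j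
  | RB.sh a => ∃ j : Fin n, j.val + 1 = n ∧ a = Sum.inl j

/-- the permutation of the signed indices attached to a root: the reflection -/
def RB.perm : RB n → Equiv.Perm (J n)
  | RB.lg a b => sw a b
  | RB.sh a => sc a

/-- the root subgroups -/
def RB.U (X : J n → J n → F → M) (Ys : J n → F → M) : RB n → Subgroup M
  | RB.lg a b => Subgroup.closure {g | ∃ t : F, g = X a b t}
  | RB.sh a => Subgroup.closure {g | ∃ t : F, g = Ys a t}

/-- the Weyl elements of a root -/
def RB.nS (X : J n → J n → F → M) (Ys : J n → F → M) : RB n → Set M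
  | RB.lg a b => {g | ∃ t : F, t ≠ 0 ∧ g = wX X a b t}
  | RB.sh a => {g | ∃ t : F, t ≠ 0 ∧ g = wY Ys a t}

/-- the torus of a group with the relations of type `B_n` -/
def HhB (X : J n → J n → F → M) (Ys : J n → F → M) : Subgroup M :=
  Subgroup.closure ({g | ∃ a b, ∃ t : F, IsRoot a b ∧ t ≠ 0 ∧ g = tX X a b t} ∪
    {g | ∃ a, ∃ t : F, t ≠ 0 ∧ g = tY Ys a t})

/-- `σ` commutes with the negation of the signed indices -/
def NgEquivariant (σ : J n → J n) : Prop := ∀ a, σ (ng a) = ng (σ a)

theorem RB.valid_map {σ : Equiv.Perm (J n)} (hσ : NgEquivariant σ) {r : RB n} (hr : r.Valid) :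
    (r.map σ).Valid := by
  cases r with
  | lg a b =>
    obtain ⟨h1, h2⟩ := hr
    exact ⟨fun h => h1 (σ.injective h), fun h => h2 (σ.injective (by rw [h, hσ]))⟩
  | sh a => trivial

theorem sw_ngEquivariant (a b : J n) : NgEquivariant (sw a b) := fun c => sw_ng a b c

theorem sc_ngEquivariant (a : J n) : NgEquivariant (sc a) := by
  intro c
  unfold sc
  by_cases h1 : c = a
  · subst h1; simp
  · by_cases h2 : c = ng a
    · subst h2; simp
    · have h1' : ng c ≠ ng a := fun h => h1 (ng_injective h)
      have h2' : ng c ≠ a := fun h => h2 (by rw [← h, ng_ng])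
      rw [Equiv.swap_apply_of_ne_of_ne h1 h2, Equiv.swap_apply_of_ne_of_ne h2' h1']

theorem RB.perm_ngEquivariant (r : RB n) : NgEquivariant r.perm := by
  cases r with
  | lg a b => exact sw_ngEquivariant a b
  | sh a => exact sc_ngEquivariant a

/-- the action of a permutation commuting with the negation on the valid names -/
def mapB (σ : Equiv.Perm (J n)) (hσ : NgEquivariant σ) (r : RootB n) : RootB n :=
  ⟨r.1.map σ, RB.valid_map hσ r.2⟩

theorem RB.perm_perm (r : RB n) (c : J n) : r.perm (r.perm c) = c := by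
  cases r with
  | lg a b => exact sw_sw a b c
  | sh a => exact Equiv.swap_apply_self _ _ c

theorem RB.map_map_perm (s r : RB n) : (r.map s.perm).map s.perm = r := by
  cases r with
  | lg a b => simp only [RB.map, RB.perm_perm]
  | sh a => simp only [RB.map, RB.perm_perm]

theorem RB.valid_neg {r : RB n} (hr : r.Valid) : r.neg.Valid := by
  cases r with
  | lg a b => exact IsRoot.symm hr
  | sh a => trivial

theorem RB.valid_alt {r : RB n} (hr : r.Valid) : r.alt.Valid := by
  cases r with
  | lg a b => exact IsRoot.flip hr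
  | sh a => trivial

/-- the reflection in a root acting on the valid names -/
def reflB (s : RootB n) : Equiv.Perm (RootB n) where
  toFun := mapB s.1.perm s.1.perm_ngEquivariant
  invFun := mapB s.1.perm s.1.perm_ngEquivariant
  left_inv r := Subtype.ext (RB.map_map_perm s.1 r.1)
  right_inv r := Subtype.ext (RB.map_map_perm s.1 r.1)

theorem reflB_val (s r : RootB n) : (reflB s r).1 = r.1.map s.1.perm := rfl

/-- the root group datum of a group with root elements of type `B_n` -/
def datumB (X : J n → J n → F → M) (Ys : J n → F → M) : Datum M (RootB n) where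
  U r := r.1.U X Ys
  neg r := ⟨r.1.neg, RB.valid_neg r.2⟩
  alt r := ⟨r.1.alt, RB.valid_alt r.2⟩
  Pos r := r.1.Pos
  Simple r := r.1.Simple
  refl := reflB
  nS r := r.1.nS X Ys
  T := HhB X Ys

/-- the position of an index of the matrices in the order
`e_0 < … < e_{n-1} < 0 < f_{n-1} < … < f_0` -/
def rkI : I n → ℕ
  | Sum.inl _ => n
  | Sum.inr (Sum.inl i) => i.val
  | Sum.inr (Sum.inr i) => 2 * n - i.val

/-- `g` permutes the root subgroups through a permutation of the signed indices -/
def RootPB (X : J n → J n → F → M) (Ys : J n → F → M) (g : M) : Prop :=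
  ∃ σ : Equiv.Perm (J n), NgEquivariant σ ∧
    (∀ a b, IsRoot a b → ∀ t : F, ∃ t' : F, g * X a b t * g⁻¹ = X (σ a) (σ b) t') ∧
    ∀ a, ∀ t : F, ∃ t' : F, g * Ys a t * g⁻¹ = Ys (σ a) t'

/-- the lift of the sign change at `j` -/
def cB (Ys : J n → F → M) (j : Fin n) : M := wY Ys (Sum.inl j) 1

/-- the subgroup generated by the sign changes -/
def CSB (Ys : J n → F → M) : Subgroup M := Subgroup.closure {g | ∃ j : Fin n, g = cB Ys j}

/-- the subgroup generated by the long root elements -/
def MD (X : J n → J n → F → M) : Subgroup M :=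
  Subgroup.closure {g | ∃ a b, ∃ t : F, IsRoot a b ∧ g = X a b t}

/-- the block diagonal embedding of the matrices of `Ω⁺_{2n}` -/
def blkB (A : Matrix (J n) (J n) F) : Matrix (I n) (I n) F := Matrix.fromBlocks 1 0 0 A

/-- the extension of a map of the signed indices to the indices of the matrices (fixing `0`) -/
def extI (σ : J n → J n) : I n → I n := Sum.map id σ

/-- the matrix of an element of `Ω_{2n+1}(F)` -/
def coeΩB (n : ℕ) (F : Type*) [Field F] :
    ↥(Cfsg.Omega F (Cfsg.quadFormOdd n F)) →* Matrix (I n) (I n) F :=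
  (Units.coeHom (Matrix (I n) (I n) F)).comp
    ((Cfsg.isometryGroup F (Cfsg.quadFormOdd n F)).subtype.comp
      (Cfsg.Omega F (Cfsg.quadFormOdd n F)).subtype)

theorem coeΩB_injective : Function.Injective (coeΩB n F) := by
  intro x y h
  apply Subtype.ext
  apply Subtype.ext
  apply Units.ext
  exact h

/-! ### basic consequences of the relations -/

theorem isRoot_ng_right' {a b : J n} (hab : IsRoot a b) : IsRoot a (ng b) :=
  ⟨hab.2, by rw [ng_ng]; exact hab.1⟩

theorem isRoot_ng_left' {a b : J n} (hab : IsRoot a b) : IsRoot (ng a) b :=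
  ⟨fun h => hab.2 (by rw [← h, ng_ng]), fun h => hab.1 (ng_injective h)⟩

theorem Ys_zero {X : J n → J n → F → M} {Ys : J n → F → M} (hB : BRel X Ys) (a : J n) :
    Ys a (0 : F) = 1 := by
  have h := hB.yadd a 0 0
  rw [add_zero] at h
  exact (mul_eq_left (a := Ys a (0 : F))).1 h.symm

theorem Ys_inv {X : J n → J n → F → M} {Ys : J n → F → M} (hB : BRel X Ys) (a : J n) (t : F) :
    (Ys a t)⁻¹ = Ys a (-t) := by
  apply inv_eq_of_mul_eq_one_right
  rw [← hB.yadd, add_neg_cancel, Ys_zero hB]

theorem Ys_neg {X : J n → J n → F → M} {Ys : J n → F → M} (hB : BRel X Ys) (a : J n) (t : F) :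
    Ys a (-t) = (Ys a t)⁻¹ := (Ys_inv hB a t).symm

theorem Ys_comm {X : J n → J n → F → M} {Ys : J n → F → M} (hB : BRel X Ys) (a : J n) (s t : F) :
    Ys a s * Ys a t = Ys a t * Ys a s := by
  rw [← hB.yadd, ← hB.yadd, add_comm]

/-- the elements of a short root subgroup -/
theorem mem_U_sh {X : J n → J n → F → M} {Ys : J n → F → M} (hB : BRel X Ys) (a : J n) {g : M} :
    g ∈ (RB.sh a : RB n).U X Ys ↔ ∃ t : F, g = Ys a t := by
  constructor
  · intro hg
    induction hg using Subgroup.closure_induction with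
    | mem x hx => exact hx
    | one => exact ⟨0, (Ys_zero hB a).symm⟩
    | mul x y _ _ hx hy =>
      obtain ⟨s, rfl⟩ := hx
      obtain ⟨t, rfl⟩ := hy
      exact ⟨s + t, (hB.yadd a s t).symm⟩
    | inv x _ hx =>
      obtain ⟨s, rfl⟩ := hx
      exact ⟨-s, Ys_inv hB a s⟩
  · rintro ⟨t, rfl⟩
    exact Subgroup.subset_closure ⟨t, rfl⟩

/-- the elements of a long root subgroup -/
theorem mem_U_lg {X : J n → J n → F → M} {Ys : J n → F → M} (hB : BRel X Ys) {a b : J n}
    (hab : IsRoot a b) {g : M} :
    g ∈ (RB.lg a b : RB n).U X Ys ↔ ∃ t : F, g = X a b t := by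
  constructor
  · intro hg
    induction hg using Subgroup.closure_induction with
    | mem x hx => exact hx
    | one => exact ⟨0, (WCONJ.X_zero hB.dX hab).symm⟩
    | mul x y _ _ hx hy =>
      obtain ⟨s, rfl⟩ := hx
      obtain ⟨t, rfl⟩ := hy
      exact ⟨s + t, (hB.dX.add a b hab s t).symm⟩
    | inv x _ hx =>
      obtain ⟨s, rfl⟩ := hx
      exact ⟨-s, WCONJ.X_inv hB.dX hab s⟩
  · rintro ⟨t, rfl⟩
    exact Subgroup.subset_closure ⟨t, rfl⟩

/-- the long root elements as elements of the subgroup `MD X` -/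
noncomputable def XD (X : J n → J n → F → M) (a b : J n) (t : F) : ↥(MD X) :=
  if h : IsRoot a b then ⟨X a b t, Subgroup.subset_closure ⟨a, b, t, h, rfl⟩⟩ else 1

theorem XD_coe (X : J n → J n → F → M) {a b : J n} (hab : IsRoot a b) (t : F) :
    ((XD X a b t : ↥(MD X)) : M) = X a b t := by
  unfold XD
  rw [dif_pos hab]

/-- `g` normalizes every root subgroup -/
def DiagPB (X : J n → J n → F → M) (Ys : J n → F → M) (g : M) : Prop :=
  (∀ a b, IsRoot a b → ∀ t : F, ∃ t' : F, g * X a b t * g⁻¹ = X a b t') ∧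
    ∀ a, ∀ t : F, ∃ t' : F, g * Ys a t * g⁻¹ = Ys a t'

end Cfsg.Agent.S2094P
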