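import Mathlib
import Cfsg.Agent.Helper2.S2094.DefsR
import Cfsg.Agent.Helper2.PSLM.Defs

set_option autoImplicit false
set_option linter.unusedSectionVars false
set_option linter.unusedVariables false

/-! S2094 chapter A (central closedness): definitions and the general lemmas on canonical lifts.

`ψ : E →* G` is a central extension; `cl ψ hψ x y` (S2086) is the commutator of any lifts of `x`, `y`.
* `conj_cl`: conjugation by any `e₀ : E` maps `cl x y` to `cl (g x g⁻¹) (g y g⁻¹)`, `g = ψ e₀`;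
* `uniq_lift`: two additive lifts of the same one-parameter family which are equivariant under an
  element acting by a scalar `χ ≠ 1` coincide;
* `YT`: the canonical lifts of the short root elements. -/

namespace Cfsg.Agent.S2094P

open Cfsg.Agent.S3352P Cfsg.Agent.S3351P Cfsg.Agent.S2096P Cfsg.Agent.S2086P
open scoped commutatorElement

variable {n : ℕ} {F : Type*} [Field F] {G : Type*} [Group G] {E : Type*} [Group E]

section general

variable (ψ : E →* G) (hψ : Function.Surjective ψ) (hc : ψ.ker ≤ Subgroup.center E)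

include hc in
/-- conjugation of a canonical commutator -/
theorem conj_cl (e₀ : E) (x y : G) :
    e₀ * cl ψ hψ x y * e₀⁻¹ = cl ψ hψ (ψ e₀ * x * (ψ e₀)⁻¹) (ψ e₀ * y * (ψ e₀)⁻¹) := by
  have h1 : e₀ * cl ψ hψ x y * e₀⁻¹ =
      ⁅e₀ * Function.surjInv hψ x * e₀⁻¹, e₀ * Function.surjInv hψ y * e₀⁻¹⁆ := by
    unfold cl
    simp only [commutatorElement_def]
    group
  rw [h1]
  apply cl_eq ψ hψ hc
  · rw [map_mul, map_mul, map_inv, Function.surjInv_eq hψ]
  · rw [map_mul, map_mul, map_inv, Function.surjInv_eq hψ]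

include hc in
/-- two lifts which commute: all lifts commute -/
theorem CL_of_commute {g g' : G} {e e' : E} (he : ψ e = g) (he' : ψ e' = g') (h : Commute e e') :
    CL ψ g g' := by
  intro f f' hf hf'
  have h1 : f * e⁻¹ ∈ Subgroup.center E :=
    hc (by rw [MonoidHom.mem_ker, map_mul, map_inv, hf, he, mul_inv_cancel])
  have h2 : f' * e'⁻¹ ∈ Subgroup.center E :=
    hc (by rw [MonoidHom.mem_ker, map_mul, map_inv, hf', he', mul_inv_cancel])
  have e1 : f = (f * e⁻¹) * e := by group
  have e2 : f' = (f' * e'⁻¹) * e' := by group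
  rw [e1, e2]
  have c1 : ∀ z : E, Commute (f * e⁻¹) z := fun z => (Subgroup.mem_center_iff.mp h1 z).symm
  have c2 : ∀ z : E, Commute z (f' * e'⁻¹) := fun z => Subgroup.mem_center_iff.mp h2 z
  have k1 : Commute (f * e⁻¹ * e) (f' * e'⁻¹) := c2 _
  have k2 : Commute (f * e⁻¹ * e) e' := (c1 e').mul_left h
  exact k1.mul_right k2

include hc in
/-- the uniqueness principle: two additive lifts of the same family, both equivariant under an
element acting by a scalar `χ ≠ 1`, coincide -/
theorem uniq_lift {V W : F → E} (hVW : ∀ s, ψ (V s) = ψ (W s))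
    (hV : ∀ s t, V (s + t) = V s * V t) (hW : ∀ s t, W (s + t) = W s * W t)
    {e₀ : E} {χ : F} (hχ : χ ≠ 1) (hVe : ∀ s, e₀ * V s * e₀⁻¹ = V (χ * s))
    (hWe : ∀ s, e₀ * W s * e₀⁻¹ = W (χ * s)) : V = W := by
  -- the difference is a central character
  have hz : ∀ s, V s * (W s)⁻¹ ∈ Subgroup.center E := fun s =>
    hc (by rw [MonoidHom.mem_ker, map_mul, map_inv, hVW s, mul_inv_cancel])
  have hzc : ∀ s (y : E), y * (V s * (W s)⁻¹) = V s * (W s)⁻¹ * y := fun s y =>
    Subgroup.mem_center_iff.mp (hz s) y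
  have hadd : ∀ s t, V (s + t) * (W (s + t))⁻¹ = V s * (W s)⁻¹ * (V t * (W t)⁻¹) := by
    intro s t
    rw [hV, hW, _root_.mul_inv_rev]
    calc V s * V t * ((W t)⁻¹ * (W s)⁻¹) = V s * (V t * (W t)⁻¹) * (W s)⁻¹ := by group
      _ = V s * ((W s)⁻¹ * (V t * (W t)⁻¹)) := by rw [mul_assoc, ← hzc t (W s)⁻¹]
      _ = V s * (W s)⁻¹ * (V t * (W t)⁻¹) := by group
  have hV0 : V 0 = 1 := by
    have h := hV 0 0
    rw [add_zero] at h
    exact (mul_eq_left (a := V 0)).1 h.symm
  have hW0 : W 0 = 1 := by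
    have h := hW 0 0
    rw [add_zero] at h
    exact (mul_eq_left (a := W 0)).1 h.symm
  have hinv : ∀ s, V (χ * s) * (W (χ * s))⁻¹ = V s * (W s)⁻¹ := by
    intro s
    rw [← hVe, ← hWe]
    calc e₀ * V s * e₀⁻¹ * (e₀ * W s * e₀⁻¹)⁻¹ = e₀ * (V s * (W s)⁻¹) * e₀⁻¹ := by group
      _ = V s * (W s)⁻¹ * e₀ * e₀⁻¹ := by rw [hzc s e₀]
      _ = V s * (W s)⁻¹ := by group
  have hone : ∀ s, V ((χ - 1) * s) * (W ((χ - 1) * s))⁻¹ = 1 := by
    intro s
    have e : (χ - 1) * s = χ * s + (-s) := by ring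
    rw [e, hadd, hinv]
    have h0 := hadd s (-s)
    rw [add_neg_cancel, hV0, hW0, inv_one, mul_one] at h0
    exact h0.symm
  funext s
  have hχ' : χ - 1 ≠ 0 := sub_ne_zero.2 hχ
  have h := hone ((χ - 1)⁻¹ * s)
  rw [← mul_assoc, mul_inv_cancel₀ hχ', one_mul] at h
  exact mul_inv_eq_one.1 h

include hc in
/-- additivity of a canonical commutator in the first variable -/
theorem cl_mul_left {x x' y : G} (h : CL ψ x ⁅x', y⁆) :
    cl ψ hψ (x * x') y = cl ψ hψ x' y * cl ψ hψ x y := by
  obtain ⟨a, ha⟩ := hψ x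
  obtain ⟨a', ha'⟩ := hψ x'
  obtain ⟨b, hb⟩ := hψ y
  rw [← cl_eq ψ hψ hc (e := a * a') (e' := b) (by rw [map_mul, ha, ha']) hb,
    ← cl_eq ψ hψ hc ha' hb, ← cl_eq ψ hψ hc ha hb]
  have hcomm : Commute a ⁅a', b⁆ := h a ⁅a', b⁆ ha (by rw [map_commutatorElement, ha', hb])
  have e1 : ⁅a * a', b⁆ = a * ⁅a', b⁆ * a⁻¹ * ⁅a, b⁆ := by
    simp only [commutatorElement_def]; group
  rw [e1, hcomm.eq, mul_inv_cancel_right]

end general

/-- the canonical lifts of the short root elements: commutators with a torus element acting by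
`lam` -/
noncomputable def YT (X : J n → J n → F → G) (Ys : J n → F → G) (ψ : E →* G)
    (hψ : Function.Surjective ψ) (hn : 3 ≤ n) (lam : F) (a : J n) (t : F) : E :=
  cl ψ hψ (tX X a (th hn a a) lam) (Ys a ((lam - 1)⁻¹ * t))

/-- the facts on the canonical lifts of the long root elements which chapter A needs: the lifts of
commuting long root elements commute, the canonical lifts satisfy the relations of type `D_n`, and
the commutator of lifts does not depend on the middle index -/
structure LongOK [Fintype F] (X : J n → J n → F → G) (ψ : E →* G) (hψ : Function.Surjective ψ)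
    (hn : 3 ≤ n) : Prop where
  c2 : ∀ a b c d, IsRoot a b → IsRoot c d → b ≠ c → a ≠ d → a ≠ ng c → a ≠ ng d → b ≠ ng c →
    b ≠ ng d → ∀ s t : F, CL ψ (X a b s) (X c d t)
  rel : DRel (Y X ψ hψ hn)
  ind : ∀ a b c, IsRoot a b → IsRoot b c → IsRoot a c → ∀ s t : F,
    cl ψ hψ (X a b s) (X b c t) = Y X ψ hψ hn a c (s * t)

end Cfsg.Agent.S2094P
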