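import Mathlib
import Cfsg.Agent.Helper2.S2094.DefsR
import Cfsg.Agent.Helper2.S2096.DefsC

set_option autoImplicit false
set_option linter.unusedSectionVars false
set_option linter.unusedVariables false

/-! S2094 chapter C (the spin representation of type `B_n`): definitions.

`CARB ψ ψ0`: the relations of the Clifford algebra of the form `x₀² + Σ x_i y_i` for the standard
basis (`ψ0` the anisotropic vector: `ψ0² = 1`, anticommuting with the `ψ a`); `Yc ψ ψ0 a t` is the
unit `1 + t ψ_a ψ_0`, the lift of the short root element `ymB a t`. -/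

namespace Cfsg.Agent.S2094P

open Cfsg.Agent.S3352P Cfsg.Agent.S3351P Cfsg.Agent.S2096P

variable {n : ℕ} {F : Type*} [Field F] {A : Type*} [Ring A] [Algebra F A]

/-- the relations of the Clifford algebra of `x₀² + Σ x_i y_i` -/
structure CARB (ψ : J n → A) (ψ0 : A) : Prop where
  car : CAR ψ
  sq0 : ψ0 * ψ0 = 1
  anti0 : ∀ a, ψ0 * ψ a = -(ψ a * ψ0)

/-- the element `1 + t ψ_a ψ_0` of the algebra -/
def yc (ψ : J n → A) (ψ0 : A) (a : J n) (t : F) : A := 1 + t • (ψ a * ψ0)

/-- the unit `1 + t ψ_a ψ_0` (junk if it is not a unit) -/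
noncomputable def Yc (ψ : J n → A) (ψ0 : A) (a : J n) (t : F) : Aˣ := by
  classical
  exact if h : IsUnit (yc ψ ψ0 a t) then h.unit else 1

end Cfsg.Agent.S2094P
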