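import Mathlib
import Cfsg.Agent.Helper2.S2094.DefsA
import Cfsg.Agent.Helper7.S2094CLYA
import Cfsg.Agent.Helper4.S2094YTMAP
import Cfsg.Agent.Helper7.S2094CLYY
import Cfsg.Agent.Helper4.S2094YTADD
import Cfsg.Agent.Helper21.S2094LYADD
import Cfsg.Agent.Helper19.S2094C2H3
import Cfsg.Agent.Helper11.S2094CLYD
import Cfsg.Agent.Helper7.S2094LYFLIP
import Cfsg.Agent.Helper25.S2094YTEQUIV
import Cfsg.Agent.Helper21.S2094LYIND
import Cfsg.Agent.Helper7.S2094LYEQUIV
import Cfsg.Agent.Helper21.S2094LBAL
import Cfsg.Agent.Helper20.S2094YTYY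
import Cfsg.Agent.Helper20.S2094YTXY

set_option autoImplicit false
set_option linter.unusedSectionVars false
set_option linter.unusedVariables false

/-! S2094 chapter A (every central extension of a group with the relations of type `B_n` and the
natural representation splits): STUBS (local only). -/

namespace Cfsg.Agent.S2094P

open Matrix Cfsg.Agent.S3352P Cfsg.Agent.S3351P Cfsg.Agent.S2096P Cfsg.Agent.S2086P
open scoped commutatorElement

variable {n : ℕ} {F : Type*} [Field F] [Fintype F] {G : Type*} [Group G] {E : Type*} [Group E]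
  {X : J n → J n → F → G} {Ys : J n → F → G}

/-! ### the long root elements -/

/-! ### the short root elements -/

end Cfsg.Agent.S2094P
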