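import Mathlib
import Cfsg.Agent.Helper2.S2094.DefsA
import Cfsg.Agent.Helper2.S2094.StubsA
import Cfsg.Agent.Helper2.S2096.MainA

set_option autoImplicit false
set_option linter.unusedSectionVars false
set_option linter.unusedVariables false

/-! S2094 chapter A, assembly: every central extension of the Steinberg group of type `B_n` over a
finite field of odd order splits (`(n, q) ≠ (3, 3)`). -/

namespace Cfsg.Agent.S2094P

open Matrix Cfsg.Agent.S3352P Cfsg.Agent.S3351P Cfsg.Agent.S2096P Cfsg.Agent.S2086P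
open scoped commutatorElement

universe u

variable {n : ℕ} {F : Type*} [Field F] [Fintype F] {G : Type*} [Group G] {E : Type*} [Group E]
  {X : J n → J n → F → G} {Ys : J n → F → G}

namespace MAINAB

section

variable (π : G →* Matrix (I n) (I n) F)
  (hπX : ∀ a b, IsRoot a b → ∀ t : F, π (X a b t) = xmB a b t)
  (hπY : ∀ a, ∀ t : F, π (Ys a t) = ymB a t)

include hπX hπY in
/-- the facts on the long root elements from the commutation of the lifts -/
theorem longOK_of_c2 (hn : 3 ≤ n) (h2 : (2 : F) ≠ 0) (hB : BRel X Ys) (ψ : E →* G)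
    (hψ : Function.Surjective ψ) (hc : ψ.ker ≤ Subgroup.center E)
    (hC2 : ∀ a b c d, IsRoot a b → IsRoot c d → b ≠ c → a ≠ d → a ≠ ng c → a ≠ ng d → b ≠ ng c →
      b ≠ ng d → ∀ s t : F, CL ψ (X a b s) (X c d t)) : LongOK X ψ hψ hn := by
  have hX := hB.dX
  have hind := fun a b c (hab : IsRoot a b) (hbc : IsRoot b c) (hac : IsRoot a c) (s t : F) =>
    cl_eq_Y_of_c2 π hπX hπY hn h2 hB ψ hψ hc hC2 hab hbc hac s t
  refine ⟨hC2, ?_, hind⟩
  have hflip : ∀ a b, IsRoot a b → ∀ t : F, Y X ψ hψ hn (ng b) (ng a) t = Y X ψ hψ hn a b (-t) :=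
    fun a b hab t => Y_flip_of_c2 π hπX hπY hn h2 hB ψ hψ hc hC2 hab t
  have hadd : ∀ a b, IsRoot a b → ∀ s t : F,
      Y X ψ hψ hn a b (s + t) = Y X ψ hψ hn a b s * Y X ψ hψ hn a b t :=
    fun a b hab s t => Y_add_of_c2 hn hX ψ hψ hc hC2 hab s t
  have hmul : ∀ a b c, IsRoot a b → IsRoot b c → IsRoot a c → ∀ s t : F,
      cm (Y X ψ hψ hn a b s) (Y X ψ hψ hn b c t) = Y X ψ hψ hn a c (s * t) := by
    intro a b c hab hbc hac s t
    rw [MAINA.cm_eq_comm, cl_eq ψ hψ hc (map_Y hX ψ hψ hn hab s) (map_Y hX ψ hψ hn hbc t)]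
    exact hind a b c hab hbc hac s t
  have hcomm : ∀ a b c d, IsRoot a b → IsRoot c d → b ≠ c → a ≠ d → a ≠ ng c → a ≠ ng d →
      b ≠ ng c → b ≠ ng d → ∀ s t : F,
      Y X ψ hψ hn a b s * Y X ψ hψ hn c d t = Y X ψ hψ hn c d t * Y X ψ hψ hn a b s := by
    intro a b c d hab hcd h1 h2 h3 h4 h5 h6 s t
    exact hC2 a b c d hab hcd h1 h2 h3 h4 h5 h6 s t _ _ (map_Y hX ψ hψ hn hab s)
      (map_Y hX ψ hψ hn hcd t)
  have hcen : ∀ a b, IsRoot a b → ∀ s t : F,
      cm (Y X ψ hψ hn a b s) (Y X ψ hψ hn a (ng b) t) ∈ Subgroup.center E := by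
    intro a b hab s t
    have hab' : IsRoot a (ng b) := isRoot_ng_right' hab
    apply hc
    rw [MonoidHom.mem_ker, cm_def, map_mul, map_mul, map_mul, map_inv, map_inv,
      map_Y hX ψ hψ hn hab s, map_Y hX ψ hψ hn hab' t, hX.orth a b hab s t]
    group
  exact ⟨hflip, hadd, hmul, hcomm, orth_of_central hn hflip hadd hmul hcomm hcen⟩

include hπX hπY in
/-- the facts on the long root elements, in the two regimes -/
theorem longOK (hn : 3 ≤ n) (h2 : (2 : F) ≠ 0) (hB : BRel X Ys) (ψ : E →* G)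
    (hψ : Function.Surjective ψ) (hc : ψ.ker ≤ Subgroup.center E) : LongOK X ψ hψ hn := by
  apply longOK_of_c2 π hπX hπY hn h2 hB ψ hψ hc
  intro a b c d hab hcd h1 h2' h3 h4 h5 h6 s t
  by_cases hn3 : n = 3
  · exact cl_comm3 π hπX hπY hn3 h2 hB ψ hψ hc hab hcd h1 h2' h3 h4 h5 h6 s t
  · have hbig : Big n F := by
      rcases Nat.lt_or_ge n 5 with h | h
      · right
        refine ⟨by omega, ?_⟩
        -- a field with `2 ≠ 0` has at least three elements
        by_contra hcard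
        have h01 : ∀ x : F, x = 0 ∨ x = 1 := by
          intro x
          by_contra hx
          push Not at hx
          have : 3 ≤ Fintype.card F := by
            have hinj : Function.Injective (fun i : Fin 3 => (![0, 1, x] : Fin 3 → F) i) := by
              intro i j hij
              fin_cases i <;> fin_cases j <;> simp_all
            simpa using Fintype.card_le_of_injective _ hinj
          exact hcard this
        rcases h01 2 with h | h
        · exact h2 h
        · have : (1 : F) = 0 := by linear_combination h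
          exact one_ne_zero this
      · left; exact h
    exact cl_comm hbig hB.dX ψ hψ hc hab hcd h1 h2' h3 h4 h5 h6 s t

include hπX hπY in
/-- the lifts of a short and a long root element which commute do commute -/
theorem cl_ycomm (hn : 3 ≤ n) (h2 : (2 : F) ≠ 0) (hreg : 4 ≤ n ∨ 5 ≤ Fintype.card F)
    (hB : BRel X Ys) (ψ : E →* G) (hψ : Function.Surjective ψ)
    (hc : ψ.ker ≤ Subgroup.center E) {a c d : J n} (hcd : IsRoot c d) (h1 : d ≠ a)
    (h2' : c ≠ ng a) (s t : F) : CL ψ (Ys a s) (X c d t) := by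
  by_cases hca : c = a
  · subst hca
    exact cl_Ys_X_fst hn hB ψ hψ hc hcd s t
  · by_cases hda : d = ng a
    · subst hda
      -- `X c (ng a) t = X a (ng c) (-t)`
      have hr : IsRoot a (ng c) := ⟨fun h => h2' (by rw [h, ng_ng]), by rw [ng_ng]; exact Ne.symm hca⟩
      have h := hB.dX.flip a (ng c) hr t
      rw [ng_ng] at h
      rw [h]
      exact cl_Ys_X_fst hn hB ψ hψ hc hr s (-t)
    · exact cl_Ys_X_disj π hπX hπY hn h2 hreg hB ψ hψ hc hcd hca h2' h1 hda s t

include hπX hπY in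
/-- the canonical lifts satisfy the relations of type `B_n` -/
theorem bRel_YT (hn : 3 ≤ n) (h2 : (2 : F) ≠ 0) (hreg : 4 ≤ n ∨ 5 ≤ Fintype.card F)
    (hB : BRel X Ys) (ψ : E →* G) (hψ : Function.Surjective ψ)
    (hc : ψ.ker ≤ Subgroup.center E) {lam : F} (hl0 : lam ≠ 0) (hl1 : lam ≠ 1) :
    BRel (Y X ψ hψ hn) (YT X Ys ψ hψ hn lam) := by
  have hL := longOK π hπX hπY hn h2 hB ψ hψ hc
  refine ⟨hL.rel, ?_, ?_, ?_, ?_⟩
  · intro a s t
    exact YT_add hn hB ψ hψ hc hL hl0 a s t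
  · intro a b hab s t
    exact YT_yy π hπX hπY hn h2 hB ψ hψ hc hL hl0 hl1 hab s t
  · intro a b hab s t
    exact YT_xy π hπX hπY hn h2 hB ψ hψ hc hL hl0 hl1 hab s t
  · intro a c d hcd h1 h2' s t
    exact cl_ycomm π hπX hπY hn h2 hreg hB ψ hψ hc hcd h1 h2' s t _ _
      (map_YT π hπX hπY hn h2 hB ψ hψ hl0 hl1 a s) (map_Y hB.dX ψ hψ hn hcd t)

end

end MAINAB

open MAINAB

section StB

variable {n : ℕ} {F : Type u} [Field F] [Fintype F] {E : Type u} [Group E]

/-- every central extension of `StB n F` splits -/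
theorem exists_sectionB (π : StB n F →* Matrix (I n) (I n) F)
    (hπX : ∀ a b, IsRoot a b → ∀ t : F, π (sxB a b t) = xmB a b t)
    (hπY : ∀ a, ∀ t : F, π (syB a t) = ymB a t) (hn : 3 ≤ n) (h2 : (2 : F) ≠ 0)
    (hreg : 4 ≤ n ∨ 5 ≤ Fintype.card F) (ψ : E →* StB n F)
    (hψ : Function.Surjective ψ) (hc : ψ.ker ≤ Subgroup.center E) :
    ∃ σ : StB n F →* E, ψ.comp σ = MonoidHom.id _ := by
  have hl0 : (-1 : F) ≠ 0 := neg_ne_zero.2 one_ne_zero
  have hl1 : (-1 : F) ≠ 1 := by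
    intro h
    apply h2
    linear_combination -h
  have hY := bRel_YT π hπX hπY hn h2 hreg (bRel_st (n := n) (F := F)) ψ hψ hc hl0 hl1
  obtain ⟨σ, hσX, hσY⟩ := exists_liftB hY
  refine ⟨σ, ?_⟩
  apply hom_extB
  · intro a b hab t
    rw [MonoidHom.comp_apply, hσX a b hab t, map_Y bRel_st.dX ψ hψ hn hab t, MonoidHom.id_apply]
  · intro a t
    rw [MonoidHom.comp_apply, hσY a t, map_YT π hπX hπY hn h2 bRel_st ψ hψ hl0 hl1 a t,
      MonoidHom.id_apply]

/-- a stem extension of `StB n F` is trivial -/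
theorem ker_eq_botB (π : StB n F →* Matrix (I n) (I n) F)
    (hπX : ∀ a b, IsRoot a b → ∀ t : F, π (sxB a b t) = xmB a b t)
    (hπY : ∀ a, ∀ t : F, π (syB a t) = ymB a t) (hn : 3 ≤ n) (h2 : (2 : F) ≠ 0)
    (hreg : 4 ≤ n ∨ 5 ≤ Fintype.card F) (ρ : E →* StB n F)
    (hρ : Cfsg.IsStemExtension ρ) : ρ.ker = ⊥ := by
  obtain ⟨s, hs'⟩ := exists_sectionB π hπX hπY hn h2 hreg ρ hρ.1 hρ.2.1
  have hs : ∀ g, ρ (s g) = g := fun g => by
    have := congrArg (fun φ => φ g) hs'
    simpa using this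
  have hle : commutator E ≤ s.range := by
    rw [commutator_eq_closure, Subgroup.closure_le]
    rintro _ ⟨x, y, rfl⟩
    have hx : x * (s (ρ x))⁻¹ ∈ Subgroup.center E :=
      hρ.2.1 (by rw [MonoidHom.mem_ker, map_mul, map_inv, hs, mul_inv_cancel])
    have hy : y * (s (ρ y))⁻¹ ∈ Subgroup.center E :=
      hρ.2.1 (by rw [MonoidHom.mem_ker, map_mul, map_inv, hs, mul_inv_cancel])
    have e1 : x = (x * (s (ρ x))⁻¹) * s (ρ x) := by group
    have e2 : y = (y * (s (ρ y))⁻¹) * s (ρ y) := by group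
    have : ⁅x, y⁆ = ⁅s (ρ x), s (ρ y)⁆ := by
      conv_lhs => rw [e1, e2]
      rw [Cfsg.Agent.Helper2.Stb.comm_mul_central_left hx,
        Cfsg.Agent.Helper2.Stb.comm_mul_central_right hy]
    rw [SetLike.mem_coe, this, ← map_commutatorElement]
    exact ⟨_, rfl⟩
  rw [Subgroup.eq_bot_iff_forall]
  intro x hx
  obtain ⟨g, rfl⟩ := hle (hρ.2.2 hx)
  have : ρ (s g) = 1 := hx
  rw [hs] at this
  rw [this, map_one]

end StB

end Cfsg.Agent.S2094P
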