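import Mathlib
import Cfsg.Agent.Helper2.S2094.DefsC
import Cfsg.Agent.Helper9.S2094CLUNITB
import Cfsg.Agent.Helper9.S2094CLRELB1
import Cfsg.Agent.Helper9.S2094CLRELB3
import Cfsg.Agent.Helper20.S2094CLRELB2
import Cfsg.Agent.Helper20.S2094CLWB
import Cfsg.Agent.Helper13.S2094CLCARB

set_option autoImplicit false
set_option linter.unusedSectionVars false
set_option linter.unusedVariables false

/-! S2094 chapter C (the spin representation of type `B_n`): STUBS (local only). -/

namespace Cfsg.Agent.S2094P

open Cfsg.Agent.S3352P Cfsg.Agent.S3351P Cfsg.Agent.S2096P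

universe u

variable {n : ℕ} {F : Type*} [Field F] {A : Type*} [Ring A] [Algebra F A] {ψ : J n → A} {ψ0 : A}

end Cfsg.Agent.S2094P
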