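import Mathlib
import Cfsg.Agent.Helper2.S2094.DefsC
import Cfsg.Agent.Helper2.S2094.StubsC
import Cfsg.Agent.Helper2.S2096.MainC

set_option autoImplicit false
set_option linter.unusedSectionVars false
set_option linter.unusedVariables false

/-! S2094 chapter C, assembly: the spin representation of the Steinberg group of type `B_n`; the
element `tY (e_o) (-1)` is not trivial in odd characteristic. -/

namespace Cfsg.Agent.S2094P

open Cfsg.Agent.S3352P Cfsg.Agent.S3351P Cfsg.Agent.S2096P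

universe u

namespace MAINCB

section

variable {n : ℕ} {F : Type*} [Field F] {A : Type*} [Ring A] [Algebra F A] {ψ : J n → A} {ψ0 : A}

theorem yc_zero (a : J n) : yc ψ ψ0 a (0 : F) = 1 := by
  unfold yc
  rw [zero_smul, add_zero]

/-- the units `Xc`, `Yc` satisfy the Steinberg relations of type `B_n` -/
theorem bRel_XcYc (hψ : CARB ψ ψ0) : BRel (Xc (F := F) ψ) (Yc (F := F) ψ ψ0) := by
  have hX : DRel (Xc (F := F) ψ) := MAINC.dRel_Xc hψ.car
  have hXinv : ∀ a b, IsRoot a b → ∀ s : F, (Xc ψ a b s)⁻¹ = Xc ψ a b (-s) :=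
    fun a b hab s => WCONJ.X_inv hX hab s
  have hadd : ∀ a, ∀ s t : F, Yc ψ ψ0 a (s + t) = Yc ψ ψ0 a s * Yc ψ ψ0 a t := by
    intro a s t
    apply Units.ext
    rw [Units.val_mul, coe_Yc hψ, coe_Yc hψ, coe_Yc hψ, yc_add hψ]
  have hzero : ∀ a, Yc ψ ψ0 a (0 : F) = 1 := by
    intro a
    apply Units.ext
    rw [coe_Yc hψ, yc_zero, Units.val_one]
  have hinv : ∀ a, ∀ s : F, (Yc ψ ψ0 a s)⁻¹ = Yc ψ ψ0 a (-s) := by
    intro a s
    rw [inv_eq_iff_mul_eq_one, ← hadd a, add_neg_cancel, hzero a]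
  refine ⟨hX, hadd, ?_, ?_, ?_⟩
  · intro a b hab s t
    have hab' : IsRoot a (ng b) := isRoot_ng_right' hab
    rw [cm_def, hinv a, hinv b]
    apply Units.ext
    rw [Units.val_mul, Units.val_mul, Units.val_mul, coe_Yc hψ, coe_Yc hψ, coe_Yc hψ, coe_Yc hψ,
      coe_Xc hψ.car hab', yc_yy hψ hab]
  · intro a b hab s t
    have hab' : IsRoot a (ng b) := isRoot_ng_right' hab
    rw [cm_def, hXinv a b hab, hinv b]
    apply Units.ext
    rw [Units.val_mul, Units.val_mul, Units.val_mul, Units.val_mul, coe_Xc hψ.car hab,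
      coe_Yc hψ, coe_Xc hψ.car hab, coe_Yc hψ, coe_Yc hψ, coe_Xc hψ.car hab', xc_yc_xy hψ hab]
  · intro a c d hcd h1 h2 s t
    apply Units.ext
    rw [Units.val_mul, Units.val_mul, coe_Yc hψ, coe_Xc hψ.car hcd, yc_comm_xc hψ hcd h1 h2]

end

/-- the image of `tY` under a homomorphism -/
theorem map_tY {n : ℕ} {F : Type*} [Field F] {M M' : Type*} [Group M] [Group M']
    {Ys : J n → F → M} {Ys' : J n → F → M'} (φ : M →* M')
    (h : ∀ a, ∀ t : F, φ (Ys a t) = Ys' a t) (a : J n) (t : F) :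
    φ (tY Ys a t) = tY Ys' a t := by
  simp only [tY, wY, map_mul, h]

end MAINCB

/-- CLIFFB (result of chapter C) -/
theorem tY_syB_ne_one {n : ℕ} {F : Type u} [Field F] (h2 : (2 : F) ≠ 0) (a : J n) :
    tY (syB (n := n) (F := F)) a (-1) ≠ 1 := by
  obtain ⟨A, _, _, ψ, ψ0, hnt, hψ⟩ := exists_carB n F h2
  obtain ⟨φ, -, hφ⟩ := exists_liftB (MAINCB.bRel_XcYc (F := F) hψ)
  intro h1
  have h3 := MAINCB.map_tY φ hφ a (-1)
  rw [h1, map_one] at h3
  have h4 : (1 : A) = -1 := by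
    rw [← coe_tY_Yc (F := F) hψ a, ← h3, Units.val_one]
  have h5 : (algebraMap F A) 2 = 0 := by
    rw [map_ofNat]
    have : (2 : A) = 1 + 1 := by norm_num
    rw [this]
    nth_rewrite 2 [h4]
    exact add_neg_cancel 1
  exact h2 ((map_eq_zero_iff _ (algebraMap F A).injective).1 h5)

end Cfsg.Agent.S2094P
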