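import Mathlib
import Cfsg.Agent.Helper2.S2094.DefsR
import Cfsg.Agent.Lead.S2094GENB
import Cfsg.Agent.Lead.S2094RANK1B
import Cfsg.Agent.Helper7.S2094COMMB
import Cfsg.Agent.Helper22.S2094CONJLS
import Cfsg.Agent.Helper26.S2094CONJSL
import Cfsg.Agent.Helper26.S2094CONJSS1
import Cfsg.Agent.Helper22.S2094RBCOMB
import Cfsg.Agent.Helper27.S2094WYID
import Cfsg.Agent.Helper27.S2094CONJSS2
import Cfsg.Agent.Helper16.S2094NSCONJB
import Cfsg.Agent.Helper16.S2094TCONJB

set_option autoImplicit false
set_option linter.unusedSectionVars false
set_option linter.unusedVariables false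

/-! S2094 chapter R (the root group datum of a group with the relations of type `B_n`): STUBS
(local only). -/

namespace Cfsg.Agent.S2094P

open Matrix Cfsg.Agent.S3352P Cfsg.Agent.S3351P Cfsg.Agent.S2096P Cfsg.Agent.RGD

variable {n : ℕ} {F : Type*} [Field F] {M : Type*} [Group M] {X : J n → J n → F → M}
  {Ys : J n → F → M}

/-! ### RBCOMB: the combinatorics of the names -/

/-! ### CONJLS: a long Weyl element acting on the short root elements -/

/-! ### CONJSL: a short Weyl element acting on the long root elements -/

/-! ### CONJSS1, CONJSS2: a short Weyl element acting on the short root elements -/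

/-! ### WYID: rank one identities of the short roots -/

/-! ### NSCONJB: the Weyl elements permute the root subgroups -/

/-! ### TCONJB: the torus normalizes the root subgroups -/

/-! ### RANK1B: the rank one relation -/

/-! ### COMMB: the commutator relations -/

/-! ### GENB: the simple root subgroups and their opposites generate -/

end Cfsg.Agent.S2094P
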