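import Mathlib
import Cfsg.Agent.Helper2.S2094.DefsR
import Cfsg.Agent.Helper20.S2094INJD
import Cfsg.Agent.Helper18.S2094INJPOSB
import Cfsg.Agent.Helper9.S2094UNITRIB
import Cfsg.Agent.Helper4.S2094MONOB
import Cfsg.Agent.Helper9.S2094BLOCKD
import Cfsg.Agent.Helper4.S2094UDECB
import Cfsg.Agent.Helper18.S2094ROOTPB

set_option autoImplicit false
set_option linter.unusedSectionVars false
set_option linter.unusedVariables false

/-! S2094 chapter K (the kernel of the natural representation of a group with the relations of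
type `B_n` is central): STUBS (local only). -/

namespace Cfsg.Agent.S2094P

open Matrix Cfsg.Agent.S3352P Cfsg.Agent.S3351P Cfsg.Agent.S2096P Cfsg.Agent.RGD

variable {n : ℕ} {F : Type*} [Field F] {M : Type*} [Group M] {X : J n → J n → F → M}
  {Ys : J n → F → M}

section pi

variable (π : M →* Matrix (I n) (I n) F)
  (hπX : ∀ a b, IsRoot a b → ∀ t : F, π (X a b t) = xmB a b t)
  (hπY : ∀ a, ∀ t : F, π (Ys a t) = ymB a t)

end pi

end Cfsg.Agent.S2094P
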