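import Mathlib
import Cfsg.Agent.Helper2.S2094.DefsR
import Cfsg.Agent.Helper2.S2094.MainR
import Cfsg.Agent.Helper2.S2094.StubsK
import Cfsg.Agent.Helper2.RGD.Main
import Cfsg.Agent.Helper2.S3352.Ker

set_option autoImplicit false
set_option linter.unusedSectionVars false
set_option linter.unusedVariables false

/-! S2094 chapter K, assembly: the kernel of the natural representation of a group with the
relations of type `B_n` is central. -/

namespace Cfsg.Agent.S2094P

open Matrix Cfsg.Agent.S3352P Cfsg.Agent.S3351P Cfsg.Agent.S2096P Cfsg.Agent.RGD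

variable {n : ℕ} {F : Type*} [Field F] {M : Type*} [Group M] {X : J n → J n → F → M}
  {Ys : J n → F → M}

namespace MAINK

theorem extI_one : extI (1 : Equiv.Perm (J n)) = id := by
  funext i
  rcases i with u | a
  · rfl
  · rfl

theorem rkI_lt_of_rk_lt {a b : J n} (h : rk a < rk b) :
    rkI (Sum.inr a : I n) < rkI (Sum.inr b : I n) := by
  rcases a with i | i <;> rcases b with j | j <;> simp only [rk, rkI] at h ⊢ <;> omega

theorem diagPB_mul {g h : M} (hg : DiagPB X Ys g) (hh : DiagPB X Ys h) : DiagPB X Ys (g * h) := by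
  refine ⟨fun a b hab t => ?_, fun a t => ?_⟩
  · obtain ⟨t', ht'⟩ := hh.1 a b hab t
    obtain ⟨t'', ht''⟩ := hg.1 a b hab t'
    refine ⟨t'', ?_⟩
    rw [← ht'', ← ht']
    group
  · obtain ⟨t', ht'⟩ := hh.2 a t
    obtain ⟨t'', ht''⟩ := hg.2 a t'
    refine ⟨t'', ?_⟩
    rw [← ht'', ← ht']
    group

/-- conjugation by an element normalizing the root subgroups stabilizes `Û` -/
theorem diagPB_conj_mem_Uh (hB : BRel X Ys) {g : M} (hg : DiagPB X Ys g) {y : M}
    (hy : y ∈ (datumB X Ys).Uh) : g * y * g⁻¹ ∈ (datumB X Ys).Uh := by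
  induction hy using Subgroup.closure_induction with
  | mem x hx =>
    obtain ⟨⟨r, hrv⟩, hr, hxr⟩ := hx
    cases r with
    | lg a b =>
      obtain ⟨t, rfl⟩ := (mem_U_lg hB hrv).1 hxr
      obtain ⟨t', ht'⟩ := hg.1 a b hrv t
      rw [ht']
      exact Subgroup.subset_closure ⟨⟨RB.lg a b, hrv⟩, hr, (mem_U_lg hB hrv).2 ⟨t', rfl⟩⟩
    | sh a =>
      obtain ⟨t, rfl⟩ := (mem_U_sh hB a).1 hxr
      obtain ⟨t', ht'⟩ := hg.2 a t
      rw [ht']
      exact Subgroup.subset_closure ⟨⟨RB.sh a, hrv⟩, hr, (mem_U_sh hB a).2 ⟨t', rfl⟩⟩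
  | one => rw [mul_one, mul_inv_cancel]; exact Subgroup.one_mem _
  | mul x y _ _ hx hy =>
    have e : g * (x * y) * g⁻¹ = (g * x * g⁻¹) * (g * y * g⁻¹) := by group
    rw [e]
    exact Subgroup.mul_mem _ hx hy
  | inv x _ hx =>
    have e : g * x⁻¹ * g⁻¹ = (g * x * g⁻¹)⁻¹ := by group
    rw [e]
    exact Subgroup.inv_mem _ hx

theorem xmB_apply {a b : J n} (hab : IsRoot a b) (s : F) :
    xmB a b s (Sum.inr a) (Sum.inr b) = s := by
  unfold xmB
  rw [Matrix.add_apply, Matrix.one_apply_ne (fun h => hab.1 (Sum.inr.inj h)), Matrix.smul_apply,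
    Matrix.sub_apply, Matrix.single_apply_same, Matrix.single_apply_of_ne]
  · simp
  · intro h
    exact hab.2 (Sum.inr.inj h.1).symm

theorem ymB_apply (a : J n) (s : F) : ymB a s o0 (Sum.inr (ng a)) = -s := by
  unfold ymB
  simp [Matrix.sub_apply, Matrix.add_apply, o0]

end MAINK

open MAINK

section main

variable (π : M →* Matrix (I n) (I n) F)
  (hπX : ∀ a b, IsRoot a b → ∀ t : F, π (X a b t) = xmB a b t)
  (hπY : ∀ a, ∀ t : F, π (Ys a t) = ymB a t)

include hπX hπY in
/-- an element of the kernel of `π` is a product `k m k'` with `k, k'` in the torus and `m ∈ N̂`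
normalizing every root subgroup -/
theorem ker_decomp [Finite F] (hn : 3 ≤ n) (h2 : (2 : F) ≠ 0) (hB : BRel X Ys)
    (hgen : Subgroup.closure ({g : M | ∃ a b, ∃ t : F, IsRoot a b ∧ g = X a b t} ∪
      {g | ∃ a, ∃ t : F, g = Ys a t}) = ⊤) {x : M} (hx : π x = 1) :
    ∃ k ∈ HhB X Ys, ∃ m ∈ (datumB X Ys).Nh, ∃ k' ∈ HhB X Ys,
      DiagPB X Ys m ∧ (∀ i a, i ≠ a → π m i a = 0) ∧ x = k * m * k' := by
  have hD := isRGD_datumB hn h2 hB hgen
  obtain ⟨u, hu, k, hk, m, hm, u', hu', k', hk', rfl⟩ := exists_decomp hD x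
  -- images
  have hUT : ∀ {y : M}, y ∈ (datumB X Ys).Uh →
      (∀ i j, rkI j < rkI i → π y i j = 0) ∧ ∀ i, π y i i = 1 :=
    fun hy => unitri_of_mem_UhB π hπX hπY hy
  have hDg : ∀ {y : M}, DiagPB X Ys y → ∀ i a, i ≠ a → π y i a = 0 := by
    intro y hy i a hia
    have := mono_of_rootPB π hπX hπY hn h2 (g := y) (σ := 1) (fun a => rfl) hy.1 hy.2 i a
    rw [extI_one] at this
    exact this hia
  have hTD : ∀ {y : M}, y ∈ HhB X Ys → DiagPB X Ys y := fun hy =>
    ⟨fun a b hab t => HhB_conj_X hn hB hy hab t, fun a t => HhB_conj_Ys hn hB hy a t⟩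
  have hkD : DiagPB X Ys k := hTD hk
  have hk'D : DiagPB X Ys k' := hTD hk'
  have hkiD : DiagPB X Ys k⁻¹ := hTD (Subgroup.inv_mem _ hk)
  have hk'iD : DiagPB X Ys k'⁻¹ := hTD (Subgroup.inv_mem _ hk')
  have hBU : ∀ {y : M}, y ∈ (datumB X Ys).Uh → Matrix.BlockTriangular (π y) rkI := by
    intro y hy i j hij
    exact (hUT hy).1 i j hij
  have hBD : ∀ {y : M}, DiagPB X Ys y → Matrix.BlockTriangular (π y) rkI := by
    intro y hy i j hij
    exact hDg hy i j (fun h => by rw [h] at hij; exact lt_irrefl _ hij)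
  -- `π m` is upper triangular
  obtain ⟨σ, hσ, hmX, hmY⟩ := rootPB_of_mem_Nh hn hB hm
  have hmono := mono_of_rootPB π hπX hπY hn h2 hσ hmX hmY
  have hmeq : m = k⁻¹ * u⁻¹ * (u * k * m * (u' * k')) * k'⁻¹ * u'⁻¹ := by group
  have hπm : π m = π k⁻¹ * π u⁻¹ * π k'⁻¹ * π u'⁻¹ := by
    conv_lhs => rw [hmeq]
    simp only [map_mul, hx, mul_one]
  have hBm : Matrix.BlockTriangular (π m) rkI := by
    rw [hπm]
    exact (((hBD hkiD).mul (hBU (Subgroup.inv_mem _ hu))).mul (hBD hk'iD)).mul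
      (hBU (Subgroup.inv_mem _ hu'))
  -- the entries along `σ` do not vanish
  have hnz : ∀ a, π m (extI σ a) a ≠ 0 := by
    intro a h0
    have h1 : (π m⁻¹ * π m) a a = 1 := by
      rw [← map_mul, inv_mul_cancel, map_one, Matrix.one_apply_eq]
    rw [Matrix.mul_apply] at h1
    have h2 : ∀ i, π m⁻¹ a i * π m i a = 0 := by
      intro i
      by_cases hi : i = extI σ a
      · rw [hi, h0, mul_zero]
      · rw [hmono i a hi, mul_zero]
    simp only [h2, Finset.sum_const_zero] at h1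
    exact zero_ne_one h1
  have hσ1 : ∀ a, σ a = a := by
    apply KER.perm_eq_one_of_rk_le
    intro a
    by_contra hlt
    exact hnz (Sum.inr a) (hBm (rkI_lt_of_rk_lt (not_le.1 hlt)))
  have hmD : DiagPB X Ys m := by
    refine ⟨fun a b hab t => ?_, fun a t => ?_⟩
    · have := hmX a b hab t
      rw [hσ1 a, hσ1 b] at this
      exact this
    · have := hmY a t
      rw [hσ1 a] at this
      exact this
  -- reduce to a diagonal element
  have hd : DiagPB X Ys (k * m) := diagPB_mul hkD hmD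
  have hd' : DiagPB X Ys (k * m * k') := diagPB_mul hd hk'D
  set u'' : M := u * (k * m * u' * (k * m)⁻¹) with hu''
  have hu''U : u'' ∈ (datumB X Ys).Uh := Subgroup.mul_mem _ hu (diagPB_conj_mem_Uh hB hd hu')
  have hxeq : u * k * m * (u' * k') = u'' * (k * m * k') := by
    rw [hu'']; group
  rw [hxeq] at hx ⊢
  rw [map_mul] at hx
  -- `π u'' = 1`
  have hdiag1 : ∀ b, π (k * m * k') b b = 1 := by
    intro b
    have h1 : (π u'' * π (k * m * k')) b b = 1 := by rw [hx, Matrix.one_apply_eq]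
    rw [Matrix.mul_apply, Finset.sum_eq_single b] at h1
    · rw [(hUT hu''U).2 b, one_mul] at h1
      exact h1
    · intro j _ hjb
      rw [hDg hd' j b hjb, mul_zero]
    · intro h; exact absurd (Finset.mem_univ b) h
  have hπu : π u'' = 1 := by
    ext a b
    by_cases hab : a = b
    · rw [hab, (hUT hu''U).2 b, Matrix.one_apply_eq]
    · rw [Matrix.one_apply_ne hab]
      have h1 : (π u'' * π (k * m * k')) a b = 0 := by rw [hx, Matrix.one_apply_ne hab]
      rw [Matrix.mul_apply, Finset.sum_eq_single b] at h1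
      · rw [hdiag1 b, mul_one] at h1
        exact h1
      · intro j _ hjb
        rw [hDg hd' j b hjb, mul_zero]
      · intro h; exact absurd (Finset.mem_univ b) h
  have hu1 : u'' = 1 := eq_one_of_mem_UhB π hπX hπY hn h2 hB hu''U hπu
  rw [hu1, one_mul]
  exact ⟨k, hk, m, hm, k', hk', hmD, hDg hmD, rfl⟩

include hπX hπY in
/-- the kernel of `π` is central -/
theorem ker_le_centerB [Finite F] (hn : 3 ≤ n) (h2 : (2 : F) ≠ 0) (hB : BRel X Ys)
    (hgen : Subgroup.closure ({g : M | ∃ a b, ∃ t : F, IsRoot a b ∧ g = X a b t} ∪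
      {g | ∃ a, ∃ t : F, g = Ys a t}) = ⊤) :
    π.ker ≤ Subgroup.center M := by
  intro x hx
  rw [MonoidHom.mem_ker] at hx
  obtain ⟨k, hk, m, hm, k', hk', hmD, -, rfl⟩ := ker_decomp π hπX hπY hn h2 hB hgen hx
  have hTD : ∀ {y : M}, y ∈ HhB X Ys → DiagPB X Ys y := fun hy =>
    ⟨fun a b hab t => HhB_conj_X hn hB hy hab t, fun a t => HhB_conj_Ys hn hB hy a t⟩
  have hd' : DiagPB X Ys (k * m * k') := diagPB_mul (diagPB_mul (hTD hk) hmD) (hTD hk')
  -- a diagonal element in the kernel is central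
  set d : M := k * m * k' with hdd
  have hdi : π d⁻¹ = 1 := by
    have h := map_mul π d d⁻¹
    rw [mul_inv_cancel, map_one, hx, one_mul] at h
    exact h.symm
  have hcommX : ∀ a b, IsRoot a b → ∀ t : F, d * X a b t = X a b t * d := by
    intro a b hab t
    obtain ⟨t', h1⟩ := hd'.1 a b hab t
    have h2 := congrArg π h1
    rw [map_mul, map_mul, hx, one_mul, hdi, mul_one, hπX a b hab, hπX a b hab] at h2
    have h3 := congrFun (congrFun h2 (Sum.inr a)) (Sum.inr b)
    rw [xmB_apply hab, xmB_apply hab] at h3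
    rw [← h3] at h1
    calc d * X a b t = d * X a b t * d⁻¹ * d := by group
      _ = X a b t * d := by rw [h1]
  have hcommY : ∀ a, ∀ t : F, d * Ys a t = Ys a t * d := by
    intro a t
    obtain ⟨t', h1⟩ := hd'.2 a t
    have h2 := congrArg π h1
    rw [map_mul, map_mul, hx, one_mul, hdi, mul_one, hπY a, hπY a] at h2
    have h3 := congrFun (congrFun h2 o0) (Sum.inr (ng a))
    rw [ymB_apply, ymB_apply, neg_inj] at h3
    rw [← h3] at h1
    calc d * Ys a t = d * Ys a t * d⁻¹ * d := by group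
      _ = Ys a t * d := by rw [h1]
  rw [Subgroup.mem_center_iff]
  intro g
  have hg : g ∈ Subgroup.closure ({g : M | ∃ a b, ∃ t : F, IsRoot a b ∧ g = X a b t} ∪
      {g | ∃ a, ∃ t : F, g = Ys a t}) := by
    rw [hgen]; exact Subgroup.mem_top _
  induction hg using Subgroup.closure_induction with
  | mem y hy =>
    rcases hy with ⟨a, b, t, hab, rfl⟩ | ⟨a, t, rfl⟩
    · exact (hcommX a b hab t).symm
    · exact (hcommY a t).symm
  | one => simp
  | mul y y' _ _ hy hy' =>
    rw [mul_assoc, hy', ← mul_assoc, hy, mul_assoc]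
  | inv y _ hy =>
    calc y⁻¹ * d = y⁻¹ * (d * y) * y⁻¹ := by group
      _ = y⁻¹ * (y * d) * y⁻¹ := by rw [hy]
      _ = d * y⁻¹ := by group

end main

end Cfsg.Agent.S2094P
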