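import Mathlib
import Cfsg.Agent.Helper2.S2094.DefsR
import Cfsg.Agent.Helper23.S2094PIHALFB
import Cfsg.Agent.Helper23.S2094PITB
import Cfsg.Agent.Helper22.S2094DTRANS
import Cfsg.Agent.Helper23.S2094WCONJWB
import Cfsg.Agent.Helper16.S2094NGENB
import Cfsg.Agent.Helper11.S2094CRELB
import Cfsg.Agent.Helper18.S2094NACONJB
import Cfsg.Agent.Helper11.S2094CHARB
import Cfsg.Agent.Helper11.S2094HNORMB
import Cfsg.Agent.Helper11.S2094CSFORMB

set_option autoImplicit false
set_option linter.unusedSectionVars false
set_option linter.unusedVariables false

/-! S2094 chapter N (an element of `N̂` with a diagonal matrix lies in the torus) and explicit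
matrices / characters of the torus: STUBS (local only). -/

namespace Cfsg.Agent.S2094P

open Matrix Cfsg.Agent.S3352P Cfsg.Agent.S3351P Cfsg.Agent.S2096P Cfsg.Agent.S2086P Cfsg.Agent.RGD

variable {n : ℕ} {F : Type*} [Field F] {M : Type*} [Group M] {X : J n → J n → F → M}
  {Ys : J n → F → M}

/-! ### WCONJWB: Weyl elements conjugated by Weyl elements (formal, from CONJLS/CONJSL/CONJSS) -/

section pi

/-! ### PITB: the matrices of the Weyl and torus elements -/

/-! ### CHARB: the torus acts on the root elements through the diagonal entries -/

/-! ### DTRANS: facts of type `D_n` (S2096) transported through the subgroup `MD X` -/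

/-! ### HNORMB: the Weyl elements normalize the torus -/

/-! ### CRELB: the relations between the sign changes modulo the torus -/

/-! ### NACONJB, NGENB, CSFORMB: the structure of `N̂` -/

end pi

end Cfsg.Agent.S2094P
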