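import Mathlib
import Cfsg.Agent.Helper2.S2094.DefsR
import Cfsg.Agent.Helper2.S2094.StubsN
import Cfsg.Agent.Helper10.S2096NAH
import Cfsg.Agent.Helper16.S2096DGH
import Cfsg.Agent.Helper20.S2096HALFSL

set_option autoImplicit false
set_option linter.unusedSectionVars false
set_option linter.unusedVariables false

/-! S2094 chapter N, assembly: an element of `N̂` with a diagonal matrix lies in the torus. -/

namespace Cfsg.Agent.S2094P

open Matrix Cfsg.Agent.S3352P Cfsg.Agent.S3351P Cfsg.Agent.S2096P Cfsg.Agent.S2086P Cfsg.Agent.RGD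

variable {n : ℕ} {F : Type*} [Field F] [Fintype F] {M : Type*} [Group M]
  {X : J n → J n → F → M} {Ys : J n → F → M}

namespace MAINN

theorem Hh_le_HhB : Hh X ≤ HhB X Ys := by
  apply Subgroup.closure_mono
  intro g hg
  exact Or.inl hg

/-- a matrix with a two-sided inverse which is diagonal has nonzero diagonal entries -/
theorem diag_ne_zero' {A B : Matrix (I n) (I n) F} (hAB : A * B = 1)
    (hA : ∀ i a, i ≠ a → A i a = 0) (a : I n) : A a a ≠ 0 := by
  intro h0
  have h1 : (A * B) a a = 1 := by rw [hAB, Matrix.one_apply_eq]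
  rw [Matrix.mul_apply] at h1
  have h2 : ∀ i, A a i * B i a = 0 := by
    intro i
    by_cases hi : i = a
    · rw [hi, h0, zero_mul]
    · rw [hA a i (Ne.symm hi), zero_mul]
  simp only [h2, Finset.sum_const_zero] at h1
  exact zero_ne_one h1

section

variable (π : M →* Matrix (I n) (I n) F)
  (hπX : ∀ a b, IsRoot a b → ∀ t : F, π (X a b t) = xmB a b t)
  (hπY : ∀ a, ∀ t : F, π (Ys a t) = ymB a t)

include hπY in
theorem pi_cB_fix {k j : Fin n} (hjk : j ≠ k) :
    (π (cB Ys k)).mulVec (Pi.single (Sum.inr (Sum.inl j)) 1) =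
      Pi.single (Sum.inr (Sum.inl j)) 1 := by
  unfold cB
  rw [pi_wY_mulVec π hπY (Sum.inl k) one_ne_zero]
  have h1 : (Sum.inr (Sum.inl j) : I n) ≠ o0 := by simp [o0]
  have h2 : (Sum.inr (Sum.inl j) : I n) ≠ Sum.inr (Sum.inl k) := by
    intro h; exact hjk (Sum.inl.inj (Sum.inr.inj h))
  have h3 : (Sum.inr (Sum.inl j) : I n) ≠ Sum.inr (ng (Sum.inl k)) := by
    intro h; simp at h
  rw [if_neg h1, if_neg h2, if_neg h3]

include hπY in
theorem pi_cB_flip (j : Fin n) :
    (π (cB Ys j)).mulVec (Pi.single (Sum.inr (Sum.inl j)) 1) =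
      -Pi.single (Sum.inr (Sum.inr j)) 1 := by
  unfold cB
  rw [pi_wY_mulVec π hπY (Sum.inl j) one_ne_zero]
  have h1 : (Sum.inr (Sum.inl j) : I n) ≠ o0 := by simp [o0]
  rw [if_neg h1, if_pos rfl]
  simp

include hπY in
theorem pi_cB_fix' {k j : Fin n} (hjk : j ≠ k) :
    (π (cB Ys k)).mulVec (Pi.single (Sum.inr (Sum.inr j)) 1) =
      Pi.single (Sum.inr (Sum.inr j)) 1 := by
  unfold cB
  rw [pi_wY_mulVec π hπY (Sum.inl k) one_ne_zero]
  have h1 : (Sum.inr (Sum.inr j) : I n) ≠ o0 := by simp [o0]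
  have h2 : (Sum.inr (Sum.inr j) : I n) ≠ Sum.inr (Sum.inl k) := by
    intro h; simp at h
  have h3 : (Sum.inr (Sum.inr j) : I n) ≠ Sum.inr (ng (Sum.inl k)) := by
    intro h
    simp only [ng_inl, Sum.inr.injEq] at h
    exact hjk h
  rw [if_neg h1, if_neg h2, if_neg h3]

include hπY in
/-- the product of the sign changes of a list moves `e_j` to `± f_j` for `j` in the list -/
theorem pi_prod_cB :
    ∀ (l : List (Fin n)), l.Nodup → ∀ j ∈ l,
      ∃ ε : F, (π ((l.map (cB Ys)).prod)).mulVec (Pi.single (Sum.inr (Sum.inl j)) 1) =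
        ε • Pi.single (Sum.inr (Sum.inr j)) 1 := by
  intro l
  induction l with
  | nil => intro _ j hj; simp at hj
  | cons k l ih =>
    intro hnd j hj
    rw [List.nodup_cons] at hnd
    rw [List.map_cons, List.prod_cons, map_mul, ← Matrix.mulVec_mulVec]
    rcases List.mem_cons.1 hj with rfl | hjl
    · -- `j = k`: the tail fixes `e_j`
      have htail : ∀ (l' : List (Fin n)), j ∉ l' →
          (π ((l'.map (cB Ys)).prod)).mulVec (Pi.single (Sum.inr (Sum.inl j)) 1) =
            Pi.single (Sum.inr (Sum.inl j)) 1 := by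
        intro l'
        induction l' with
        | nil =>
          intro _
          rw [List.map_nil, List.prod_nil, map_one, Matrix.one_mulVec]
        | cons k' l' ih' =>
          intro hj'
          have hjk' : j ≠ k' := fun h => hj' (by rw [h]; exact List.mem_cons_self)
          rw [List.map_cons, List.prod_cons, map_mul, ← Matrix.mulVec_mulVec,
            ih' (fun h => hj' (List.mem_cons_of_mem _ h))]
          exact pi_cB_fix π hπY hjk'
      rw [htail l hnd.1, pi_cB_flip π hπY]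
      exact ⟨-1, by simp⟩
    · obtain ⟨ε, hε⟩ := ih hnd.2 j hjl
      have hjk : j ≠ k := fun h => hnd.1 (by rw [← h]; exact hjl)
      rw [hε, Matrix.mulVec_smul, pi_cB_fix' π hπY hjk]
      exact ⟨ε, rfl⟩

end

end MAINN

open MAINN

section main

variable (π : M →* Matrix (I n) (I n) F)
  (hπX : ∀ a b, IsRoot a b → ∀ t : F, π (X a b t) = xmB a b t)
  (hπY : ∀ a, ∀ t : F, π (Ys a t) = ymB a t)

include hπX hπY in
/-- an element of `N̂` with a diagonal matrix lies in the torus -/
theorem mem_HhB_of_mem_Nh (hn : 3 ≤ n) (h2 : (2 : F) ≠ 0) (hB : BRel X Ys) {m : M}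
    (hm : m ∈ (datumB X Ys).Nh) (hd : ∀ i a, i ≠ a → π m i a = 0) : m ∈ HhB X Ys := by
  classical
  obtain ⟨Θ, hΘ'⟩ := exists_half_sl hn hB.dX (∅ : Finset (Fin n))
  have hΘ : ∀ (i j : Fin n) (hij : i ≠ j) (t : F),
      Θ (Matrix.SpecialLinearGroup.transvection hij t) = X (Sum.inl i) (Sum.inl j) t := by
    intro i j hij t
    rw [hΘ' i j hij t]
    simp [half]
  obtain ⟨ν, hν, y, hy, rfl⟩ := exists_of_mem_NhB π hπX hn hB hm
  obtain ⟨l, hnd, h, hh, rfl⟩ := exists_list_of_mem_CSB hn hB hy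
  obtain ⟨g, rfl⟩ := NA_le_range Θ hΘ hB.dX hν
  have hhd := diag_of_mem_HhB π hπX hπY hn h2 hB hh
  have hne := diag_ne_zero' (A := π (Θ g * ((l.map (cB Ys)).prod * h)))
    (B := π (Θ g * ((l.map (cB Ys)).prod * h))⁻¹)
    (by rw [← map_mul, mul_inv_cancel, map_one]) hd
  -- the list is empty
  have hl : l = [] := by
    by_contra hl
    obtain ⟨j, hj⟩ := List.exists_mem_of_ne_nil l hl
    obtain ⟨ε, hε⟩ := pi_prod_cB π hπY l hnd j hj
    have h1 : (π (Θ g * ((l.map (cB Ys)).prod * h))).mulVec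
          (Pi.single (Sum.inr (Sum.inl j)) 1) =
        (π h (Sum.inr (Sum.inl j)) (Sum.inr (Sum.inl j)) * ε) •
          (π (Θ g)).mulVec (Pi.single (Sum.inr (Sum.inr j)) 1) := by
      rw [map_mul, map_mul, ← Matrix.mulVec_mulVec, ← Matrix.mulVec_mulVec]
      have e1 : (π h).mulVec (Pi.single (Sum.inr (Sum.inl j)) 1) =
          π h (Sum.inr (Sum.inl j)) (Sum.inr (Sum.inl j)) •
            Pi.single (Sum.inr (Sum.inl j)) 1 := by
        ext i
        rw [Matrix.mulVec_single_one, Pi.smul_apply, Pi.single_apply]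
        by_cases hi : i = Sum.inr (Sum.inl j)
        · subst hi; simp
        · simp [hi, hhd i (Sum.inr (Sum.inl j)) hi]
      rw [e1, Matrix.mulVec_smul, hε, Matrix.mulVec_smul, Matrix.mulVec_smul, smul_smul]
    have h2' := congrFun h1 (Sum.inr (Sum.inl j))
    rw [Matrix.mulVec_single_one, Pi.smul_apply, Matrix.mulVec_single_one,
      pi_Theta_B π hπX Θ hΘ g, Matrix.col_apply, Matrix.col_apply] at h2'
    unfold blkB at h2'
    rw [Matrix.fromBlocks_apply₂₂, Matrix.fromBlocks_apply₁₂] at h2'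
    simp only [Matrix.zero_apply, smul_zero] at h2'
    exact hne (Sum.inr (Sum.inl j)) h2'
  subst hl
  simp only [List.map_nil, List.prod_nil, one_mul] at hd ⊢
  -- `Θ g` is diagonal
  have hgd : ∀ i a, i ≠ a → π (Θ g) i a = 0 := by
    intro i a hia
    have e : Θ g = (Θ g * h) * h⁻¹ := by group
    rw [e, map_mul, Matrix.mul_apply]
    apply Finset.sum_eq_zero
    intro k _
    have hhi := diag_of_mem_HhB π hπX hπY hn h2 hB (Subgroup.inv_mem _ hh)
    by_cases hk : k = a
    · subst hk; rw [hd i k hia, zero_mul]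
    · rw [hhi k a hk, mul_zero]
  have hg' : ∀ i j, i ≠ j → (g : Matrix (Fin n) (Fin n) F) i j = 0 := by
    intro i j hij
    have := hgd (Sum.inr (Sum.inl i)) (Sum.inr (Sum.inl j))
      (fun h => hij (Sum.inl.inj (Sum.inr.inj h)))
    rw [pi_Theta_B π hπX Θ hΘ g] at this
    unfold blkB at this
    rw [Matrix.fromBlocks_apply₂₂, Matrix.fromBlocks_apply₁₁] at this
    exact this
  obtain ⟨d, rfl⟩ := exists_dgS_of_diag hg'
  exact Subgroup.mul_mem _ (Hh_le_HhB (Theta_dgS_mem_Hh Θ hΘ hn hB.dX d)) hh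

end main

end Cfsg.Agent.S2094P
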