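import Mathlib
import Cfsg.Agent.Helper2.S2094.DefsR
import Cfsg.Agent.Helper20.S2094HKERD
import Cfsg.Agent.Helper16.S2094HKERB
import Cfsg.Agent.Helper26.S2094HLONG

set_option autoImplicit false
set_option linter.unusedSectionVars false
set_option linter.unusedVariables false

/-! S2094 chapter Z (the kernel of the natural representation has at most two elements): STUBS
(local only). -/

namespace Cfsg.Agent.S2094P

open Matrix Cfsg.Agent.S3352P Cfsg.Agent.S3351P Cfsg.Agent.S2096P Cfsg.Agent.S2086P Cfsg.Agent.RGD

variable {n : ℕ} {F : Type*} [Field F] [Fintype F] {M : Type*} [Group M]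
  {X : J n → J n → F → M} {Ys : J n → F → M}

end Cfsg.Agent.S2094P
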