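import Mathlib
import Cfsg.Agent.Helper2.S2094.DefsR
import Cfsg.Agent.Helper2.S2094.MainK
import Cfsg.Agent.Helper2.S2094.MainN
import Cfsg.Agent.Helper2.S2094.StubsZ

set_option autoImplicit false
set_option linter.unusedSectionVars false
set_option linter.unusedVariables false

/-! S2094 chapter Z, assembly: the kernel of the natural representation of a group with the
relations of type `B_n` is `{1, tY (e_o) (-1)}`. -/

namespace Cfsg.Agent.S2094P

open Matrix Cfsg.Agent.S3352P Cfsg.Agent.S3351P Cfsg.Agent.S2096P Cfsg.Agent.S2086P Cfsg.Agent.RGD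

variable {n : ℕ} {F : Type*} [Field F] [Fintype F] {M : Type*} [Group M]
  {X : J n → J n → F → M} {Ys : J n → F → M}

section main

variable (π : M →* Matrix (I n) (I n) F)
  (hπX : ∀ a b, IsRoot a b → ∀ t : F, π (X a b t) = xmB a b t)
  (hπY : ∀ a, ∀ t : F, π (Ys a t) = ymB a t)

include hπX hπY in
/-- the kernel of `π` lies in the torus -/
theorem ker_le_HhB (hn : 3 ≤ n) (h2 : (2 : F) ≠ 0) (hB : BRel X Ys)
    (hgen : Subgroup.closure ({g : M | ∃ a b, ∃ t : F, IsRoot a b ∧ g = X a b t} ∪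
      {g | ∃ a, ∃ t : F, g = Ys a t}) = ⊤) : π.ker ≤ HhB X Ys := by
  intro x hx
  rw [MonoidHom.mem_ker] at hx
  obtain ⟨k, hk, m, hm, k', hk', -, hmd, rfl⟩ := ker_decomp π hπX hπY hn h2 hB hgen hx
  have hmH := mem_HhB_of_mem_Nh π hπX hπY hn h2 hB hm hmd
  exact Subgroup.mul_mem _ (Subgroup.mul_mem _ hk hmH) hk'

include hπX hπY in
/-- the kernel of `π` has at most two elements -/
theorem eq_one_or_eq_tY_of_ker (hn : 3 ≤ n) (h2 : (2 : F) ≠ 0) (hB : BRel X Ys)
    (hgen : Subgroup.closure ({g : M | ∃ a b, ∃ t : F, IsRoot a b ∧ g = X a b t} ∪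
      {g | ∃ a, ∃ t : F, g = Ys a t}) = ⊤) (o : Fin n) {x : M} (hx : π x = 1) :
    x = 1 ∨ x = tY Ys (Sum.inl o) (-1) :=
  eq_one_or_eq_tY π hπX hπY hn h2 hB o
    (ker_le_HhB π hπX hπY hn h2 hB hgen (MonoidHom.mem_ker.2 hx)) hx

end main

end Cfsg.Agent.S2094P
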