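import Mathlib
import Cfsg.Agent.Helper2.S2094.DefsR
import Cfsg.Agent.Helper5.S2094XMATB
import Cfsg.Agent.Helper20.S2094MODELB
import Cfsg.Agent.Helper18.S2094MDRELB

set_option autoImplicit false
set_option linter.unusedSectionVars false
set_option linter.unusedVariables false

/-! S2094 chapter M (the model: root elements of `Ω_{2n+1}(F)`): STUBS (local only). -/

namespace Cfsg.Agent.S2094P

open Matrix Cfsg.Agent.S3352P Cfsg.Agent.S3351P Cfsg.Agent.S2096P

variable {n : ℕ} {F : Type*} [Field F]

/-! ### XMATB: the relations between the model matrices -/

/-! ### MDRELB: root elements with the model matrices satisfy the relations -/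

/-! ### MODELB: the root elements lie in `Ω_{2n+1}(F)` and generate it -/

end Cfsg.Agent.S2094P
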