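import Mathlib
import Cfsg.Prelude.Def_Classical
import Cfsg.Prelude.Def_KGroupFacts
import Cfsg.Agent.Helper2.S2094.DefsR
import Cfsg.Agent.Helper2.S2094.StubsM
import Cfsg.Agent.Helper2.S2094.MainK
import Cfsg.Agent.Helper2.S2094.MainZ
import Cfsg.Agent.Helper2.S2094.MainC
import Cfsg.Agent.Helper2.S2094.MainA
import Cfsg.Agent.Helper28.FieldB6
import Cfsg.Agent.Helper11.PSL32Mult

set_option autoImplicit false
set_option linter.unusedSectionVars false
set_option linter.unusedVariables false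

/-! S2094 chapter F: the Steinberg group of type `B_n` over a finite field of odd order is the
universal cover of `Ω_{2n+1}(F)`, with kernel of order two. -/

namespace Cfsg.Agent.S2094P

open Matrix Cfsg.Agent.S3352P Cfsg.Agent.S3351P Cfsg.Agent.S2096P Cfsg.Agent.S2086P
open scoped commutatorElement

universe u

variable {n : ℕ} {F : Type u} [Field F] [Fintype F]

namespace MAINFB

/-- the natural map of the Steinberg group onto `Ω_{2n+1}(F)` -/
theorem exists_rhoB (hn : 3 ≤ n) (h2 : (2 : F) ≠ 0) :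
    ∃ ρ : StB n F →* ↥(Cfsg.Omega F (Cfsg.quadFormOdd n F)), Function.Surjective ρ ∧
      (∀ a b, IsRoot a b → ∀ t : F, coeΩB n F (ρ (sxB a b t)) = xmB a b t) ∧
      ∀ a, ∀ t : F, coeΩB n F (ρ (syB a t)) = ymB a t := by
  obtain ⟨Y, Z, hY, hZ, hgen⟩ := exists_modelB (F := F) (n := n) hn h2
  have hrel : BRel Y Z := bRel_of_coe (coeΩB n F) coeΩB_injective hY hZ
  obtain ⟨ρ, hρX, hρY⟩ := exists_liftB hrel
  refine ⟨ρ, ?_, ?_, ?_⟩
  · rw [← MonoidHom.range_eq_top, eq_top_iff, ← hgen, Subgroup.closure_le]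
    rintro _ (⟨a, b, t, hab, rfl⟩ | ⟨a, t, rfl⟩)
    · exact ⟨sxB a b t, hρX a b hab t⟩
    · exact ⟨syB a t, hρY a t⟩
  · intro a b hab t
    rw [hρX a b hab t, hY a b hab t]
  · intro a t
    rw [hρY a t, hZ a t]

/-- the Steinberg group is perfect -/
theorem commutator_StB (hn : 3 ≤ n) : commutator (StB n F) = ⊤ := by
  have hB := bRel_st (n := n) (F := F)
  have hX : ∀ a b, IsRoot a b → ∀ t : F, sxB a b t ∈ commutator (StB n F) := by
    intro a b hab t
    have h := hB.dX.mul a (th hn a b) b (isRoot_left_th hn a b) (isRoot_th_right hn a b) hab t 1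
    rw [mul_one] at h
    rw [← h, cm_def, ← commutatorElement_def]
    exact Subgroup.commutator_mem_commutator (Subgroup.mem_top _) (Subgroup.mem_top _)
  rw [eq_top_iff, ← closure_sB, Subgroup.closure_le]
  rintro _ (⟨a, b, t, hab, rfl⟩ | ⟨a, t, rfl⟩)
  · exact hX a b hab t
  · -- `Ys a t = cm (X a b t) (Ys b 1) * (X a (ng b) t)⁻¹`
    have hab : IsRoot a (th hn a a) := isRoot_left_th hn a a
    have h := hB.xy a (th hn a a) hab t 1
    rw [mul_one, mul_one] at h
    have e : syB a t = cm (sxB a (th hn a a) t) (syB (th hn a a) 1) *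
        (sxB a (ng (th hn a a)) t)⁻¹ := by
      rw [h]; group
    rw [SetLike.mem_coe, e]
    apply Subgroup.mul_mem
    · rw [cm_def, ← commutatorElement_def]
      exact Subgroup.commutator_mem_commutator (Subgroup.mem_top _) (Subgroup.mem_top _)
    · exact Subgroup.inv_mem _ (hX a _ (isRoot_ng_right' hab) t)

/-- the centre of `Ω_{2n+1}(F)` is trivial -/
theorem center_Omega_eq_bot (hn : 3 ≤ n) (h2 : (2 : F) ≠ 0) :
    Subgroup.center ↥(Cfsg.Omega F (Cfsg.quadFormOdd n F)) = ⊥ := by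
  have h := Cfsg.Agent.Helper28.FB.center_Omega_odd (F := F) h2 hn
  rw [Cfsg.Agent.S2614.QfOdd_coe] at h
  exact h

end MAINFB

open MAINFB

/-- the Schur multiplier of `PΩ_{2n+1}(F)` is cyclic of order two -/
theorem hasSchurMultiplierB (hn : 3 ≤ n) (h2 : (2 : F) ≠ 0)
    (hreg : 4 ≤ n ∨ 5 ≤ Fintype.card F) :
    Cfsg.HasCyclicSchurMultiplier (Cfsg.POmega F (Cfsg.quadFormOdd n F)) 2 := by
  obtain ⟨ρ, hρs, hρX, hρY⟩ := exists_rhoB (n := n) (F := F) hn h2
  set π : StB n F →* Matrix (I n) (I n) F := (coeΩB n F).comp ρ with hπdef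
  have hπX : ∀ a b, IsRoot a b → ∀ t : F, π (sxB a b t) = xmB a b t := hρX
  have hπY : ∀ a, ∀ t : F, π (syB a t) = ymB a t := hρY
  have hB := bRel_st (n := n) (F := F)
  have hgen := closure_sB (n := n) (F := F)
  have hperf := commutator_StB (n := n) (F := F) hn
  have hkπ : π.ker ≤ Subgroup.center (StB n F) := ker_le_centerB π hπX hπY hn h2 hB hgen
  have hπρ : ∀ x, π x = 1 ↔ ρ x = 1 := by
    intro x
    constructor
    · intro h
      apply coeΩB_injective
      rw [map_one]
      exact h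
    · intro h
      rw [hπdef, MonoidHom.comp_apply, h, map_one]
  have hkρ : ρ.ker ≤ Subgroup.center (StB n F) := by
    intro x hx
    apply hkπ
    rw [MonoidHom.mem_ker] at hx ⊢
    exact (hπρ x).2 hx
  -- finiteness
  have : Finite ↥(Cfsg.Omega F (Cfsg.quadFormOdd n F)) := inferInstance
  have hfin := Cfsg.Agent.Helper11.Cover.finite_commutator ρ hρs hkρ
  rw [hperf] at hfin
  have : Finite (StB n F) := Finite.of_equiv _ Subgroup.topEquiv.toEquiv
  -- the map onto `PΩ`
  let π' : StB n F →* Cfsg.POmega F (Cfsg.quadFormOdd n F) :=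
    (QuotientGroup.mk' (Subgroup.center ↥(Cfsg.Omega F (Cfsg.quadFormOdd n F)))).comp ρ
  have hπ's : Function.Surjective π' := (QuotientGroup.mk'_surjective _).comp hρs
  have hcen := center_Omega_eq_bot (n := n) (F := F) hn h2
  have hker' : ∀ x, x ∈ π'.ker ↔ π x = 1 := by
    intro x
    rw [MonoidHom.mem_ker, MonoidHom.comp_apply, QuotientGroup.mk'_apply,
      QuotientGroup.eq_one_iff, hcen, Subgroup.mem_bot, hπρ]
  have hkerle : π'.ker ≤ Subgroup.center (StB n F) := by
    intro x hx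
    apply hkπ
    rw [MonoidHom.mem_ker]
    exact (hker' x).1 hx
  -- the kernel has two elements
  let o : Fin n := ⟨0, by omega⟩
  set z : StB n F := tY (syB (n := n) (F := F)) (Sum.inl o) (-1) with hz
  have hz1 : z ≠ 1 := tY_syB_ne_one h2 (Sum.inl o)
  have hzk : π z = 1 := by
    rw [hz, pi_tY π hπY (Sum.inl o) (neg_ne_zero.2 one_ne_zero)]
    ext i j
    rw [Matrix.diagonal_apply, Matrix.one_apply]
    by_cases hij : i = j
    · rw [if_pos hij, if_pos hij]
      split_ifs <;> simp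
    · rw [if_neg hij, if_neg hij]
  have hall : ∀ x, x ∈ π'.ker ↔ x = 1 ∨ x = z := by
    intro x
    rw [hker']
    constructor
    · intro hx
      exact eq_one_or_eq_tY_of_ker π hπX hπY hn h2 hB hgen o hx
    · rintro (rfl | rfl)
      · exact map_one π
      · exact hzk
  have hcard : Nat.card π'.ker = 2 := by
    have hzmem : z ∈ π'.ker := (hall z).2 (Or.inr rfl)
    have e : (π'.ker : Set (StB n F)) = {1, z} := by
      ext x
      rw [SetLike.mem_coe, hall x]
      simp
    have h1 : Nat.card π'.ker = Set.ncard (π'.ker : Set (StB n F)) := by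
      rw [← Nat.card_coe_set_eq]; rfl
    rw [h1, e, Set.ncard_pair (Ne.symm hz1)]
  have hcyc : IsCyclic π'.ker := by
    have : Fact (Nat.Prime 2) := ⟨Nat.prime_two⟩
    exact isCyclic_of_prime_card hcard
  have e2 := zmodCyclicMulEquiv hcyc
  rw [hcard] at e2
  exact Cfsg.Agent.Helper11.Cover.hasSchurMultiplier_of_cover hperf
    (fun P _ _ ρ' hρ' => ker_eq_botB π hπX hπY hn h2 hreg ρ' hρ') π' hπ's hkerle e2

end Cfsg.Agent.S2094P
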